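/-
Sparse matrices with monomial entries in two variables, with a decidable equality test.
-/
import Mathlib

set_option autoImplicit false

namespace CfsgLib.Chev.Ortho

variable {ι : Type} [DecidableEq ι]

/-- Position and exponents of a monomial entry. -/
abbrev SKey (ι : Type) : Type := ι × ι × ℕ × ℕ

/-- A sparse symbolic matrix. -/
abbrev SM (ι : Type) : Type := List (SKey ι × ℤ)

/-- The monomial matrix of a key. -/
def sMono {R : Type*} [CommRing R] (t u : R) (k : SKey ι) (c : ℤ) : Matrix ι ι R :=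
  Matrix.single k.1 k.2.1 ((c : R) * t ^ k.2.2.1 * u ^ k.2.2.2)

/-- The value of a symbolic matrix. -/
def sEval {R : Type*} [CommRing R] (t u : R) (L : SM ι) : Matrix ι ι R :=
  (L.map fun e => sMono t u e.1 e.2).sum

/-- The product of two monomial entries. -/
def sTerm (a b : SKey ι × ℤ) : SKey ι × ℤ :=
  ((a.1.1, b.1.2.1, a.1.2.2.1 + b.1.2.2.1, a.1.2.2.2 + b.1.2.2.2), a.2 * b.2)

/-- The product of symbolic matrices. -/
def sMul (L M : SM ι) : SM ι :=
  L.flatMap fun a => (M.filter fun b => b.1.1 = a.1.2.1).map fun b => sTerm a b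

/-- The coefficient of a key. -/
def sCoef (L : SM ι) (k : SKey ι) : ℤ := ((L.filter fun e => e.1 = k).map fun e => e.2).sum

/-- The equality test. -/
def sEq (L M : SM ι) : Bool := (L ++ M).all fun e => sCoef L e.1 == sCoef M e.1

variable {R : Type*} [CommRing R] (t u : R)

theorem sEval_nil : sEval t u ([] : SM ι) = 0 := rfl

theorem sEval_cons (e : SKey ι × ℤ) (L : SM ι) : sEval t u (e :: L) = sMono t u e.1 e.2 + sEval t u L := by
  simp [sEval]

theorem sEval_append (L M : SM ι) : sEval t u (L ++ M) = sEval t u L + sEval t u M := by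
  simp [sEval]

theorem sEval_mul [Fintype ι] (L M : SM ι) : sEval t u (sMul L M) = sEval t u L * sEval t u M := by
  induction L with
  | nil => simp [sMul, sEval]
  | cons a L ih =>
    rw [sMul, List.flatMap_cons, sEval_append, ← sMul, ih, sEval_cons, add_mul, add_left_inj]
    clear ih
    induction M with
    | nil => simp [sEval]
    | cons b M ih =>
      rw [sEval_cons, mul_add, ← ih]
      by_cases h : b.1.1 = a.1.2.1
      · rw [List.filter_cons_of_pos (by simpa using h), List.map_cons, sEval_cons, add_left_inj,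
          sMono, sMono, sMono, ← h, Matrix.single_mul_single_same, sTerm]
        simp only [Int.cast_mul, pow_add]
        congr 1
        ring
      · rw [List.filter_cons_of_neg (by simpa using h), sMono, sMono,
          Matrix.single_mul_single_of_ne _ _ _ _ (Ne.symm h), zero_add]

theorem sCoef_cons (e : SKey ι × ℤ) (L : SM ι) (k : SKey ι) :
    sCoef (e :: L) k = (if e.1 = k then e.2 else 0) + sCoef L k := by
  by_cases h : e.1 = k <;> simp [sCoef, h]

theorem eq_of_sEq {L M : SM ι} (h : sEq L M = true) : sEval t u L = sEval t u M := by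
  let f : SM ι → SKey ι →₀ ℤ := fun L => (L.map fun e => Finsupp.single e.1 e.2).sum
  have hf : ∀ (L : SM ι) k, f L k = sCoef L k := fun L k => by
    induction L with
    | nil => simp [f, sCoef]
    | cons e L ih =>
      rw [sCoef_cons, ← ih]
      simp [f, Finsupp.single_apply]
  let g : (SKey ι →₀ ℤ) →+ Matrix ι ι R := Finsupp.liftAddHom fun k =>
    { toFun := sMono t u k
      map_zero' := by simp [sMono]
      map_add' := fun a b => by simp [sMono, add_mul, Matrix.single_add] }
  have hg : ∀ L : SM ι, g (f L) = sEval t u L := fun L => by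
    induction L with
    | nil => simp [f, sEval]
    | cons e L ih =>
      rw [sEval_cons, ← ih, show f (e :: L) = Finsupp.single e.1 e.2 + f L from rfl, map_add,
        Finsupp.liftAddHom_apply_single]
      rfl
  have hz : ∀ (L : SM ι) k, (∀ e ∈ L, e.1 ≠ k) → sCoef L k = 0 := fun L k hk => by
    rw [sCoef, List.filter_eq_nil_iff.2 fun e he => by simpa using hk e he]; rfl
  rw [← hg, ← hg]
  refine congrArg g (Finsupp.ext fun k => ?_)
  rw [hf, hf]
  rw [sEq, List.all_eq_true] at h
  by_cases hk : ∃ e ∈ L ++ M, e.1 = k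
  · obtain ⟨e, he, rfl⟩ := hk
    exact eq_of_beq (h e he)
  · push Not at hk
    rw [hz L k fun e he => hk e (List.mem_append_left _ he),
      hz M k fun e he => hk e (List.mem_append_right _ he)]

/-- Cancel `t u = 1`. -/
def sNorm (L : SM ι) : SM ι :=
  L.map fun e => ((e.1.1, e.1.2.1, e.1.2.2.1 - min e.1.2.2.1 e.1.2.2.2,
    e.1.2.2.2 - min e.1.2.2.1 e.1.2.2.2), e.2)

theorem sEval_norm (h : t * u = 1) (L : SM ι) : sEval t u (sNorm L) = sEval t u L := by
  rw [sEval, sEval, sNorm, List.map_map]
  refine congrArg List.sum (List.map_congr_left fun e _ => ?_)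
  simp only [Function.comp_apply, sMono]
  congr 1
  set a := e.1.2.2.1
  set b := e.1.2.2.2
  obtain ⟨m, hm⟩ : ∃ m, m = min a b := ⟨_, rfl⟩
  rw [← hm]
  obtain ⟨a', ha⟩ : ∃ a', a = a' + m := ⟨a - m, by omega⟩
  obtain ⟨b', hb⟩ : ∃ b', b = b' + m := ⟨b - m, by omega⟩
  rw [ha, hb, Nat.add_sub_cancel, Nat.add_sub_cancel, pow_add, pow_add,
    show (e.2 : R) * (t ^ a' * t ^ m) * (u ^ b' * u ^ m) =
      (e.2 : R) * t ^ a' * u ^ b' * (t * u) ^ m by rw [mul_pow]; ring, h, one_pow, mul_one]

/-- A one-variable symbolic matrix. -/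
abbrev SM1 (ι : Type) : Type := List (ι × ι × ℕ × ℤ)

/-- The value of a one-variable symbolic matrix. -/
def sEval1 (c : R) (L : SM1 ι) : Matrix ι ι R :=
  (L.map fun e => Matrix.single e.1 e.2.1 ((e.2.2.2 : R) * c ^ e.2.2.1)).sum

/-- Substitute a monomial for the variable. -/
def sSubst (L : SM1 ι) (a b : ℕ) (z : ℤ) : SM ι :=
  L.map fun e => ((e.1, e.2.1, e.2.2.1 * a, e.2.2.1 * b), e.2.2.2 * z ^ e.2.2.1)

theorem sEval_subst (L : SM1 ι) (a b : ℕ) (z : ℤ) :
    sEval t u (sSubst L a b z) = sEval1 ((z : R) * t ^ a * u ^ b) L := by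
  rw [sEval, sEval1, sSubst, List.map_map]
  refine congrArg List.sum (List.map_congr_left fun e _ => ?_)
  simp only [Function.comp_apply, sMono]
  congr 1
  rw [mul_pow, mul_pow, ← pow_mul, ← pow_mul, Int.cast_mul, Int.cast_pow]
  ring

end CfsgLib.Chev.Ortho
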