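/-
Eichler transformations of a coordinate quadratic space with integral Gram data, and the map from
a presented group given by tables of such transformations.
-/
import Mathlib
import Cfsg.Agent.Lib.Classical.QuadEichler
import Cfsg.Agent.Lib.Chev.StTheta
import Cfsg.Agent.Lib.Chev.Ortho.SM

set_option autoImplicit false

namespace CfsgLib.Chev.Ortho

open Matrix Cfsg Cfsg.Lie CfsgLib.Classical

universe v

variable {F : Type v} [Field F] {ι : Type} [Fintype ι] [DecidableEq ι]

section Eich

variable (Q : QuadraticForm F (ι → F))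

/-- The Eichler transformation as a matrix isometry. -/
noncomputable def ei (a w : ι → F) : isometryGroup F ⇑Q := (isoEquiv Q).symm (eich Q a w)

theorem ei_apply {a w : ι → F} (hu : Q a = 0) (h : QuadraticMap.polar Q a w = 0) (x : ι → F) :
    isoApply (ei Q a w) x = x + QuadraticMap.polar Q x a • w -
      (QuadraticMap.polar Q x w + Q w * QuadraticMap.polar Q x a) • a := by
  rw [← isoEquiv_apply, ei, MulEquiv.apply_symm_apply, eich_apply Q hu h]

theorem ei_mul {a w w' : ι → F} (hu : Q a = 0) (h : QuadraticMap.polar Q a w = 0)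
    (h' : QuadraticMap.polar Q a w' = 0) : ei Q a w * ei Q a w' = ei Q a (w + w') := by
  rw [ei, ei, ei, ← map_mul, eich_mul Q hu h h']

theorem ei_zero {a : ι → F} (hu : Q a = 0) : ei Q a 0 = 1 := by
  rw [ei, eich_zero Q hu, map_one]

theorem ei_add_self {a w : ι → F} (hu : Q a = 0) (h : QuadraticMap.polar Q a w = 0) (s : F) :
    ei Q a (w + s • a) = ei Q a w := by
  rw [ei, ei, eich_add_self Q hu h]

theorem ei_smul_left {a w : ι → F} (hu : Q a = 0) (h : QuadraticMap.polar Q a w = 0) (t : F) :
    ei Q (t • a) w = ei Q a (t • w) := by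
  rw [ei, ei, eich_smul_left Q hu h]

theorem ei_conj (g : isometryGroup F ⇑Q) {a w : ι → F} (hu : Q a = 0)
    (h : QuadraticMap.polar Q a w = 0) :
    g * ei Q a w * g⁻¹ = ei Q (isoApply g a) (isoApply g w) := by
  apply (isoEquiv Q).injective
  simp only [ei, map_mul, map_inv, MulEquiv.apply_symm_apply]
  rw [eich_conj Q _ hu h, isoEquiv_apply, isoEquiv_apply]

end Eich

/-- The basis vectors. -/
def bv (F : Type v) [Field F] {ι : Type} [DecidableEq ι] (i : ι) : ι → F := Pi.single i 1

/-- Integral Gram data of a quadratic form on coordinate space. -/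
structure FD (ι : Type) where
  /-- An enumeration of the coordinates. -/
  en : List ι
  /-- The polar form on basis vectors. -/
  G : ι → ι → ℤ
  /-- The form on basis vectors. -/
  q : ι → ℤ

/-- A quadratic form with the given Gram data. -/
structure Real (d : FD ι) (Q : QuadraticForm F (ι → F)) : Prop where
  nodup : d.en.Nodup
  mem : ∀ i, i ∈ d.en
  polar : ∀ i j, QuadraticMap.polar Q (bv F i) (bv F j) = (d.G i j : F)
  quad : ∀ i, Q (bv F i) = (d.q i : F)

/-- The matrix of `eich (e a) (c e b)` as a polynomial in `c`. -/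
def eichS (d : FD ι) (a b : ι) : SM1 ι :=
  (d.en.flatMap fun j => [(j, j, 0, 1), (b, j, 1, d.G j a), (a, j, 1, -d.G j b),
    (a, j, 2, -(d.q b * d.G j a))]).filter fun e => e.2.2.2 != 0

theorem eich_matrix {d : FD ι} {Q : QuadraticForm F (ι → F)} (hR : Real d Q) {a b : ι}
    (hu : d.q a = 0) (h : d.G a b = 0) (c : F) :
    ((ei Q (bv F a) (c • bv F b) : GL ι F) : Matrix ι ι F) = sEval1 c (eichS d a b) := by
  have hu' : Q (bv F a) = 0 := by rw [hR.quad, hu, Int.cast_zero]
  have h' : QuadraticMap.polar Q (bv F a) (c • bv F b) = 0 := by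
    rw [QuadraticMap.polar_smul_right, hR.polar, h, Int.cast_zero, smul_zero]
  have hfil : ∀ L : SM1 ι, sEval1 c (L.filter fun e => e.2.2.2 != 0) = sEval1 c L := fun L => by
    induction L with
    | nil => rfl
    | cons e L ih =>
      by_cases he : e.2.2.2 = 0
      · rw [List.filter_cons_of_neg (by simp [he]), ih]
        simp [sEval1, he]
      · rw [List.filter_cons_of_pos (by simp [he])]
        simp only [sEval1, List.map_cons, List.sum_cons] at ih ⊢
        rw [ih]
  rw [eichS, hfil]
  refine Matrix.ext fun p j => ?_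
  have hl : ((ei Q (bv F a) (c • bv F b) : GL ι F) : Matrix ι ι F) p j =
      isoApply (ei Q (bv F a) (c • bv F b)) (bv F j) p := by simp [isoApply, bv, Matrix.col_apply]
  rw [hl, ei_apply Q hu' h', QuadraticMap.polar_smul_right, quad_smul, hR.polar, hR.polar, hR.quad]
  have hr : sEval1 c (d.en.flatMap fun j => [(j, j, 0, 1), (b, j, 1, d.G j a), (a, j, 1, -d.G j b),
      (a, j, 2, -(d.q b * d.G j a))]) = ∑ k : ι, (Matrix.single k k 1 +
        Matrix.single b k ((d.G k a : F) * c) + Matrix.single a k (-(d.G k b : F) * c) +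
        Matrix.single a k (-((d.q b : F) * d.G k a) * c ^ 2)) := by
    have e : (Finset.univ : Finset ι) = d.en.toFinset := by
      ext i; simp [hR.mem i]
    rw [e, List.sum_toFinset _ hR.nodup, sEval1, List.flatMap_def, List.map_flatten, List.sum_flatten,
      List.map_map, List.map_map]
    refine congrArg List.sum (List.map_congr_left fun k _ => ?_)
    simp [add_assoc]
  have hs : ∀ (i k : ι) (x : F), Matrix.single i k x p j =
      if k = j then x * (if p = i then 1 else 0) else 0 := fun i k x => by
    by_cases h1 : i = p <;> by_cases h2 : k = j <;> simp [Matrix.single_apply, h1, h2, Ne.symm]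
  rw [hr, Matrix.sum_apply, Finset.sum_eq_single j (fun k _ hk => by
    simp only [Matrix.add_apply, hs, if_neg hk, add_zero]) (by simp)]
  simp only [bv, Matrix.add_apply, hs, if_true, Pi.add_apply, Pi.sub_apply, Pi.smul_apply,
    Pi.single_apply, smul_eq_mul]
  ring

end CfsgLib.Chev.Ortho
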