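/-
The group generated by the basic Eichler transformations has, together with the monomial isometries,
everything in the isometry group of a coordinate space of maximal Witt index.
-/
import Mathlib
import Cfsg.Agent.Lib.Chev.Ortho.Frame

set_option autoImplicit false

namespace CfsgLib.Chev.Ortho

open Matrix Cfsg CfsgLib.Classical

open scoped commutatorElement

universe v

variable {F : Type v} [Field F] {ι : Type} [Fintype ι] [DecidableEq ι]

section Moves

variable (Q : QuadraticForm F (ι → F)) (E : Subgroup (isometryGroup F ⇑Q))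

omit [Fintype ι] [DecidableEq ι] in
theorem polar_self_zero {x : ι → F} (h : Q x = 0) : QuadraticMap.polar Q x x = 0 := by
  rw [quad_polar_self, h, mul_zero]

theorem ei_fix {a w z : ι → F} (hu : Q a = 0) (h : QuadraticMap.polar Q a w = 0)
    (h1 : QuadraticMap.polar Q a z = 0) (h2 : QuadraticMap.polar Q w z = 0) :
    isoApply (ei Q a w) z = z := by
  rw [ei_apply Q hu h, QuadraticMap.polar_comm Q z a, QuadraticMap.polar_comm Q z w, h1, h2]
  simp

variable {x y : ι → F} (hx : Q x = 0) (hy : Q y = 0) (hxy : QuadraticMap.polar Q x y = 1)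
  {S : Set (ι → F)} (hSx : ∀ z ∈ S, QuadraticMap.polar Q x z = 0)
  (hSy : ∀ z ∈ S, QuadraticMap.polar Q y z = 0)
  (hEx : ∀ w, QuadraticMap.polar Q x w = 0 → ei Q x w ∈ E)
  (hEy : ∀ w, QuadraticMap.polar Q y w = 0 → ei Q y w ∈ E)

include hy hxy hSx hSy hEy in
/-- A singular vector meeting `y` is moved to a multiple of `x`. -/
theorem to_line {u : ι → F} (hu : Q u = 0) (hSu : ∀ z ∈ S, QuadraticMap.polar Q u z = 0)
    (hx : Q x = 0) (ha : QuadraticMap.polar Q u y ≠ 0) :
    ∃ h ∈ E, (∀ z ∈ S, isoApply h z = z) ∧ isoApply h u = QuadraticMap.polar Q u y • x := by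
  set a := QuadraticMap.polar Q u y
  have hw : QuadraticMap.polar Q y (x - a⁻¹ • u) = 0 := by
    rw [QuadraticMap.polar_sub_right, QuadraticMap.polar_smul_right, QuadraticMap.polar_comm Q y x, hxy,
      QuadraticMap.polar_comm Q y u, smul_eq_mul, inv_mul_cancel₀ ha, sub_self]
  refine ⟨_, hEy _ hw, fun z hz => ei_fix Q hy hw (hSy z hz) ?_, ?_⟩
  · rw [QuadraticMap.polar_sub_left, QuadraticMap.polar_smul_left, hSx z hz, hSu z hz]
    simp
  · rw [ei_apply Q hy hw, quad_sub, quad_smul, hx, hu, QuadraticMap.polar_sub_right,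
      QuadraticMap.polar_smul_right, QuadraticMap.polar_smul_right, polar_self_zero Q hu,
      QuadraticMap.polar_comm Q x u, smul_sub, smul_smul, mul_inv_cancel₀ ha]
    simp only [smul_eq_mul]
    match_scalars <;> field_simp <;> ring

include hx hxy hSx hSy hEx in
/-- Two partners of `x`. -/
theorem to_partner {u : ι → F} (hu : Q u = 0) (hSu : ∀ z ∈ S, QuadraticMap.polar Q u z = 0)
    (hy : Q y = 0) (hxu : QuadraticMap.polar Q x u = 1) :
    ∃ h ∈ E, (∀ z ∈ S, isoApply h z = z) ∧ isoApply h x = x ∧ isoApply h u = y := by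
  have hw : QuadraticMap.polar Q x (y - u) = 0 := by
    rw [QuadraticMap.polar_sub_right, hxy, hxu, sub_self]
  refine ⟨_, hEx _ hw, fun z hz => ei_fix Q hx hw (hSx z hz) ?_, ei_fix Q hx hw (polar_self_zero Q hx) ?_, ?_⟩
  · rw [QuadraticMap.polar_sub_left, hSy z hz, hSu z hz, sub_zero]
  · rw [QuadraticMap.polar_sub_left, QuadraticMap.polar_comm Q y x, QuadraticMap.polar_comm Q u x, hxy,
      hxu, sub_self]
  · rw [ei_apply Q hx hw, quad_sub, hy, hu, QuadraticMap.polar_sub_right, polar_self_zero Q hu,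
      QuadraticMap.polar_comm Q u x, hxu, QuadraticMap.polar_comm Q u y]
    module

include hx hy hxy hSx hSy hEx hEy in
/-- Any singular vector is moved to a multiple of `x`, with an auxiliary anisotropic vector. -/
theorem to_x {u : ι → F} (hu : Q u = 0) (hSu : ∀ z ∈ S, QuadraticMap.polar Q u z = 0)
    {w₀ : ι → F} (hw₀ : Q w₀ ≠ 0) (hwx : QuadraticMap.polar Q x w₀ = 0)
    (hwy : QuadraticMap.polar Q y w₀ = 0) (hSw : ∀ z ∈ S, QuadraticMap.polar Q w₀ z = 0)
    (hrad : QuadraticMap.polar Q u x = 0 → QuadraticMap.polar Q u y = 0 →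
      ∃ w, QuadraticMap.polar Q x w = 0 ∧ QuadraticMap.polar Q y w = 0 ∧
        (∀ z ∈ S, QuadraticMap.polar Q w z = 0) ∧ QuadraticMap.polar Q u w ≠ 0) :
    ∃ h ∈ E, ∃ c : F, c ≠ 0 ∧ (∀ z ∈ S, isoApply h z = z) ∧ isoApply h u = c • x := by
  suffices hpre : ∃ h ∈ E, (∀ z ∈ S, isoApply h z = z) ∧ QuadraticMap.polar Q (isoApply h u) y ≠ 0 by
    obtain ⟨h, hh, hS, ha⟩ := hpre
    obtain ⟨h', hh', hS', e⟩ := to_line Q E hy hxy hSx hSy hEy (u := isoApply h u)
      (by rw [isoApply_Q (Q := ⇑Q), hu]) (fun z hz => by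
        conv_lhs => rw [← hS z hz]
        rw [iso_polar, hSu z hz]) hx ha
    exact ⟨h' * h, mul_mem hh' hh, _, ha, fun z hz => by rw [isoApply_mul, hS z hz, hS' z hz],
      by rw [isoApply_mul, e]⟩
  by_cases ha : QuadraticMap.polar Q u y = 0
  swap
  · exact ⟨1, one_mem _, fun z _ => isoApply_one z, by rwa [isoApply_one]⟩
  by_cases hb : QuadraticMap.polar Q u x = 0
  · obtain ⟨w, w1, w2, w3, w4⟩ := hrad hb ha
    refine ⟨_, hEx _ w1, fun z hz => ei_fix Q hx w1 (hSx z hz) (w3 z hz), ?_⟩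
    rw [ei_apply Q hx w1, hb]
    simp only [QuadraticMap.polar_sub_left, QuadraticMap.polar_add_left, QuadraticMap.polar_smul_left,
      ha, hxy, mul_zero, add_zero, zero_smul, smul_eq_mul, mul_one, zero_sub, ne_eq, neg_eq_zero]
    exact w4
  · obtain ⟨h, hh, hS, e⟩ := to_line Q E hx (by rw [QuadraticMap.polar_comm]; exact hxy) hSy hSx hEx hu hSu
      hy hb
    refine ⟨ei Q x w₀ * h, mul_mem (hEx _ hwx) hh, fun z hz => by
      rw [isoApply_mul, hS z hz, ei_fix Q hx hwx (hSx z hz) (hSw z hz)], ?_⟩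
    rw [isoApply_mul, e, ei_apply Q hx hwx]
    simp only [QuadraticMap.polar_sub_left, QuadraticMap.polar_add_left, QuadraticMap.polar_smul_left,
      polar_self_zero Q hy, QuadraticMap.polar_comm Q y x, hxy, hwy, QuadraticMap.polar_comm Q w₀ y,
      smul_eq_mul, mul_zero, add_zero, zero_add, mul_one, zero_sub, ne_eq, neg_eq_zero]
    exact mul_ne_zero hw₀ hb

include hx hy hxy hSx hSy hEx hEy in
/-- A multiple of `x` is moved to `x`, with an auxiliary hyperbolic pair. -/
theorem to_unit {x' y' : ι → F} (hx' : Q x' = 0) (hy' : Q y' = 0) (hxy' : QuadraticMap.polar Q x' y' = 1)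
    (h1 : QuadraticMap.polar Q x x' = 0) (h2 : QuadraticMap.polar Q x y' = 0)
    (h3 : QuadraticMap.polar Q y x' = 0) (_h4 : QuadraticMap.polar Q y y' = 0)
    (hSx' : ∀ z ∈ S, QuadraticMap.polar Q x' z = 0) (hSy' : ∀ z ∈ S, QuadraticMap.polar Q y' z = 0)
    {c : F} (hc : c ≠ 0) :
    ∃ h ∈ E, (∀ z ∈ S, isoApply h z = z) ∧ isoApply h (c • x) = x := by
  set s := 1 - c⁻¹ with hs
  have hw : QuadraticMap.polar Q x (s • y') = 0 := by
    rw [QuadraticMap.polar_smul_right, h2, smul_zero]
  have e1 : isoApply (ei Q y x') (c • x) = c • x + c • x' := by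
    rw [ei_apply Q hy h3, QuadraticMap.polar_smul_left, QuadraticMap.polar_smul_left, hxy, h1, hx']
    simp
  have e2 : isoApply (ei Q x (s • y')) (c • x + c • x') = x + c • x' := by
    rw [ei_apply Q hx hw]
    simp only [QuadraticMap.polar_add_left, QuadraticMap.polar_smul_left, QuadraticMap.polar_smul_right,
      polar_self_zero Q hx, QuadraticMap.polar_comm Q x' x, h1, h2, hxy', quad_smul, hy', smul_eq_mul,
      mul_zero, add_zero, mul_one, zero_add, zero_smul]
    rw [hs]
    match_scalars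
    · field_simp
      ring
    · ring
  have hu : Q (x + c • x') = 0 := by
    rw [quad_add, quad_smul, hx, hx', QuadraticMap.polar_smul_right, h1]; simp
  have ha : QuadraticMap.polar Q (x + c • x') y = 1 := by
    rw [QuadraticMap.polar_add_left, QuadraticMap.polar_smul_left, hxy, QuadraticMap.polar_comm Q x' y, h3]
    simp
  obtain ⟨h, hh, hS, e3⟩ := to_line Q E hy hxy hSx hSy hEy (u := x + c • x') hu (fun z hz => by
      rw [QuadraticMap.polar_add_left, QuadraticMap.polar_smul_left, hSx z hz, hSx' z hz]; simp) hx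
    (by rw [ha]; exact one_ne_zero)
  rw [ha, one_smul] at e3
  refine ⟨h * (ei Q x (s • y') * ei Q y x'), mul_mem hh (mul_mem (hEx _ hw) (hEy _ h3)), fun z hz => ?_, ?_⟩
  · rw [isoApply_mul, isoApply_mul, ei_fix Q hy h3 (hSy z hz) (hSx' z hz),
      ei_fix Q hx hw (hSx z hz) (by rw [QuadraticMap.polar_smul_left, hSy' z hz, smul_zero]), hS z hz]
  · rw [isoApply_mul, isoApply_mul, e1, e2, e3]

end Moves

section Basic

variable {d : FD ι} {Q : QuadraticForm F (ι → F)}

/-- Every singular coordinate has exactly one partner, and there is at most one other coordinate. -/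
def Split (d : FD ι) (pr : ι → ι) : Prop :=
  (∀ i, d.q i = 0 → d.q (pr i) = 0 ∧ pr (pr i) = i ∧ pr i ≠ i ∧ d.G i (pr i) = 1 ∧
    ∀ b, b ≠ pr i → d.G i b = 0) ∧
  (∀ i, d.q i = 0 ∨ d.q i = 1) ∧ ∀ i j, d.q i ≠ 0 → d.q j ≠ 0 → i = j

instance (d : FD ι) (pr : ι → ι) : Decidable (Split d pr) := by unfold Split; infer_instance

/-- The group generated by the basic Eichler transformations. -/
noncomputable def eGen (d : FD ι) (Q : QuadraticForm F (ι → F)) : Subgroup (isometryGroup F ⇑Q) :=
  Subgroup.closure {g | ∃ (a b : ι) (c : F), d.q a = 0 ∧ d.G a b = 0 ∧ g = ei Q (bv F a) (c • bv F b)}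

/-- An isometry permuting the coordinate lines. -/
def Mono (Q : QuadraticForm F (ι → F)) (g : isometryGroup F ⇑Q) : Prop :=
  ∀ i, ∃ (j : ι) (c : F), isoApply g (bv F i) = c • bv F j

variable {pr : ι → ι} (hR : Real d Q) (hP : Split d pr)
include hR hP

theorem polar_coord (a : ι) (ha : d.q a = 0) (w : ι → F) :
    QuadraticMap.polar Q (bv F a) w = w (pr a) := by
  obtain ⟨-, -, -, h1, h0⟩ := hP.1 a ha
  have e : w = ∑ b, w b • bv F b := by
    ext k; simp [bv, Finset.sum_apply, Pi.single_apply]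
  conv_lhs => rw [e, ← QuadraticMap.polarBilin_apply_apply, map_sum]
  rw [Finset.sum_eq_single (pr a) (fun b _ hb => by
    rw [QuadraticMap.polarBilin_apply_apply, QuadraticMap.polar_smul_right, hR.polar, h0 b hb]
    simp) (by simp)]
  rw [QuadraticMap.polarBilin_apply_apply, QuadraticMap.polar_smul_right, hR.polar, h1]
  simp

theorem polar_coord' (a : ι) (ha : d.q a = 0) (w : ι → F) :
    QuadraticMap.polar Q w (bv F a) = w (pr a) := by
  rw [QuadraticMap.polar_comm, polar_coord hR hP a ha]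

theorem quad_bv (a : ι) (ha : d.q a = 0) : Q (bv F a) = 0 := by rw [hR.quad, ha, Int.cast_zero]

theorem bv_apply (a b : ι) : bv F a b = if b = a then 1 else 0 := by simp [bv, Pi.single_apply]

theorem ei_mem_eGen {a : ι} (ha : d.q a = 0) {w : ι → F} (hw : QuadraticMap.polar Q (bv F a) w = 0) :
    ei Q (bv F a) w ∈ eGen d Q := by
  obtain ⟨-, -, -, -, h0⟩ := hP.1 a ha
  rw [polar_coord hR hP a ha] at hw
  suffices h : ∀ s : Finset ι, ei Q (bv F a) (∑ b ∈ s, w b • bv F b) ∈ eGen d Q ∧
      QuadraticMap.polar Q (bv F a) (∑ b ∈ s, w b • bv F b) = 0 by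
    have e : w = ∑ b, w b • bv F b := by
      ext k; simp [bv, Finset.sum_apply, Pi.single_apply]
    rw [e]
    exact (h Finset.univ).1
  intro s
  induction s using Finset.induction with
  | empty => simp [ei_zero Q (quad_bv hR hP a ha)]
  | insert b s hb ih =>
    have hb0 : QuadraticMap.polar Q (bv F a) (w b • bv F b) = 0 := by
      by_cases h : b = pr a
      · subst h; simp [hw]
      · rw [QuadraticMap.polar_smul_right, hR.polar, h0 b h]; simp
    rw [Finset.sum_insert hb]
    refine ⟨?_, by rw [QuadraticMap.polar_add_right, hb0, ih.2, add_zero]⟩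
    rw [← ei_mul Q (quad_bv hR hP a ha) hb0 ih.2]
    refine mul_mem ?_ ih.1
    by_cases h : b = pr a
    · subst h; simp [hw, ei_zero Q (quad_bv hR hP a ha)]
    · exact Subgroup.subset_closure ⟨a, b, _, ha, h0 b h, rfl⟩

/-- A monomial isometry normalises the group. -/
theorem mono_conj {g : isometryGroup F ⇑Q} (hg : Mono Q g) {e : isometryGroup F ⇑Q}
    (he : e ∈ eGen d Q) : g * e * g⁻¹ ∈ eGen d Q := by
  induction he using Subgroup.closure_induction with
  | mem x hx =>
    obtain ⟨a, b, c, ha, hab, rfl⟩ := hx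
    have hu := quad_bv hR hP a ha
    have hw : QuadraticMap.polar Q (bv F a) (c • bv F b) = 0 := by
      rw [QuadraticMap.polar_smul_right, hR.polar, hab]; simp
    rw [ei_conj Q g hu hw]
    obtain ⟨j, cj, hj⟩ := hg a
    have hcj : cj ≠ 0 := fun e => by
      rw [e, zero_smul] at hj
      have h1 := congrArg (isoApply g⁻¹) hj
      rw [isoApply_inv_apply, isoApply, Matrix.mulVec_zero] at h1
      simpa [bv] using congrFun h1 a
    have hqj : d.q j = 0 := by
      rcases hP.2.1 j with h | h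
      · exact h
      · exfalso
        have h1 := isoApply_Q (Q := ⇑Q) g (bv F a)
        rw [hj, quad_smul, hR.quad, h, hu] at h1
        simp [hcj] at h1
    have hQj : QuadraticMap.polar Q (bv F j) (isoApply g (c • bv F b)) = 0 := by
      have h1 : QuadraticMap.polar Q (isoApply g (bv F a)) (isoApply g (c • bv F b)) = 0 := by
        rw [iso_polar, hw]
      rw [hj, QuadraticMap.polar_smul_left, smul_eq_mul] at h1
      exact (mul_eq_zero.1 h1).resolve_left hcj
    rw [hj, ei_smul_left Q (quad_bv hR hP j hqj) hQj]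
    exact ei_mem_eGen hR hP hqj (by rw [QuadraticMap.polar_smul_right, hQj, smul_zero])
  | one => simp
  | mul x y _ _ hx hy => simpa [mul_assoc] using mul_mem hx hy
  | inv x _ hx => simpa [mul_assoc] using inv_mem hx

/-- If the group and the monomial isometries give everything, it is normal and contains the commutators
as soon as it contains those of monomial isometries. -/
theorem commutator_le_eGen (P : isometryGroup F ⇑Q → Prop) (hPM : ∀ g, P g → Mono Q g)
    (hgen : ∀ g : isometryGroup F ⇑Q, ∃ e ∈ eGen d Q, P (e * g))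
    (hM : ∀ g g' : isometryGroup F ⇑Q, P g → P g' → ⁅g, g'⁆ ∈ eGen d Q) :
    commutator (isometryGroup F ⇑Q) ≤ eGen d Q := by
  haveI hn : (eGen d Q).Normal := ⟨fun x hx g => by
    obtain ⟨e, he, hm⟩ := hgen g
    have := mul_mem (mul_mem (inv_mem he) (mono_conj hR hP (hPM _ hm) hx)) he
    rwa [show e⁻¹ * (e * g * x * (e * g)⁻¹) * e = g * x * g⁻¹ by group] at this⟩
  rw [commutator_def, Subgroup.commutator_le]
  intro g _ g' _
  obtain ⟨e, he, hm⟩ := hgen g
  obtain ⟨e', he', hm'⟩ := hgen g'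
  have h := hM _ _ hm hm'
  rw [← QuotientGroup.eq_one_iff] at h ⊢
  rw [← QuotientGroup.mk'_apply, map_commutatorElement] at h ⊢
  simpa [map_mul, (QuotientGroup.eq_one_iff e).2 he, (QuotientGroup.eq_one_iff e').2 he'] using h

/-- One more pair of coordinates is fixed. -/
theorem step_pair {g : isometryGroup F ⇑Q} (S : Finset ι) (hS : ∀ i ∈ S, d.q i = 0 ∧ pr i ∈ S)
    (hg : ∀ i ∈ S, isoApply g (bv F i) = bv F i) {a c : ι} (ha : d.q a = 0) (haS : a ∉ S)
    (hc : d.q c = 0) (hcS : c ∉ S) (hca : c ≠ a) (hca' : c ≠ pr a) :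
    ∃ e ∈ eGen d Q, ∀ i ∈ insert a (insert (pr a) S), isoApply (e * g) (bv F i) = bv F i := by
  obtain ⟨hpa, hppa, hpne, -, -⟩ := hP.1 a ha
  obtain ⟨hpc, hppc, hpcne, -, -⟩ := hP.1 c hc
  have hpaS : pr a ∉ S := fun h => haS (hppa ▸ (hS _ h).2)
  have hpcS : pr c ∉ S := fun h => hcS (hppc ▸ (hS _ h).2)
  have hpca : pr c ≠ a := fun e => hca' (by rw [← e, hppc])
  have hpca' : pr c ≠ pr a := fun e => hca (by rw [← hppc, e, hppa])
  set T : Set (ι → F) := bv F '' (S : Set ι)
  have hT : ∀ j, j ∉ S → ∀ z ∈ T, d.q j = 0 → QuadraticMap.polar Q (bv F j) z = 0 := by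
    rintro j hj _ ⟨i, hi, rfl⟩ hqj
    rw [polar_coord hR hP j hqj, bv_apply hR hP, if_neg]
    intro e
    exact hj (by have := (hS i hi).2; rwa [← e, (hP.1 j hqj).2.1] at this)
  have hx := quad_bv hR hP a ha
  have hy := quad_bv hR hP _ hpa
  have hxy : QuadraticMap.polar Q (bv F a) (bv F (pr a)) = 1 := by
    rw [polar_coord hR hP a ha]; simp [bv]
  have hxy' : QuadraticMap.polar Q (bv F c) (bv F (pr c)) = 1 := by
    rw [polar_coord hR hP c hc]; simp [bv]
  have hEx := fun w (h : QuadraticMap.polar Q (bv F a) w = 0) => ei_mem_eGen hR hP ha h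
  have hEy := fun w (h : QuadraticMap.polar Q (bv F (pr a)) w = 0) => ei_mem_eGen hR hP hpa h
  have hu : Q (isoApply g (bv F a)) = 0 := by rw [isoApply_Q (Q := ⇑Q), hx]
  have huT : ∀ z ∈ T, QuadraticMap.polar Q (isoApply g (bv F a)) z = 0 := by
    rintro _ ⟨i, hi, rfl⟩
    rw [← hg i hi, iso_polar]
    exact hT a haS _ ⟨i, hi, rfl⟩ ha
  have h1 : QuadraticMap.polar Q (bv F a) (bv F c) = 0 := by
    rw [polar_coord hR hP a ha, bv_apply hR hP, if_neg (Ne.symm hca')]
  have h2 : QuadraticMap.polar Q (bv F a) (bv F (pr c)) = 0 := by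
    rw [polar_coord hR hP a ha, bv_apply hR hP, if_neg (Ne.symm hpca')]
  have h3 : QuadraticMap.polar Q (bv F (pr a)) (bv F c) = 0 := by
    rw [polar_coord hR hP _ hpa, hppa, bv_apply hR hP, if_neg (Ne.symm hca)]
  have h4 : QuadraticMap.polar Q (bv F (pr a)) (bv F (pr c)) = 0 := by
    rw [polar_coord hR hP _ hpa, hppa, bv_apply hR hP, if_neg (Ne.symm hpca)]
  obtain ⟨k, hk, r, hr, hkT, hku⟩ := to_x Q (eGen d Q) hx hy hxy (hT a haS · · ha)
    (hT _ hpaS · · hpa) hEx hEy hu huT (w₀ := bv F c + bv F (pr c))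
    (by rw [quad_add, quad_bv hR hP c hc, quad_bv hR hP _ hpc, hxy']; simp)
    (by rw [QuadraticMap.polar_add_right, h1, h2, add_zero])
    (by rw [QuadraticMap.polar_add_right, h3, h4, add_zero])
    (fun z hz => by rw [QuadraticMap.polar_add_left, hT c hcS z hz hc, hT _ hpcS z hz hpc, add_zero])
    (fun hb hb' => by
      by_contra hno
      push Not at hno
      set u := isoApply g (bv F a)
      have hz : ∀ b, d.q b = 0 → u b = 0 := by
        intro b hqb
        obtain ⟨hpb, hppb, -, -, -⟩ := hP.1 b hqb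
        have eb : QuadraticMap.polar Q u (bv F (pr b)) = u b := by
          rw [polar_coord' hR hP _ hpb, hppb]
        by_cases hbS : b ∈ S
        · rw [← eb]; exact huT _ ⟨_, (hS b hbS).2, rfl⟩
        by_cases e1 : b = a
        · rw [← eb, e1]; exact hb'
        by_cases e2 : b = pr a
        · rw [← eb, e2, hppa]; exact hb
        rw [← eb]
        refine hno _ ?_ ?_ fun z hz => hT _ (fun h => hbS (hppb ▸ (hS _ h).2)) z hz hpb
        · rw [polar_coord hR hP a ha, bv_apply hR hP, if_neg]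
          exact fun e => e1 (by rw [← hppb, ← e, hppa])
        · rw [polar_coord hR hP _ hpa, hppa, bv_apply hR hP, if_neg]
          exact fun e => e2 (by rw [← hppb, ← e])
      by_cases hall : ∀ b, d.q b = 0
      · have h0 : u = 0 := funext fun b => hz b (hall b)
        have := congrArg (isoApply g⁻¹) h0
        rw [isoApply_inv_apply, isoApply, Matrix.mulVec_zero] at this
        simpa [bv] using congrFun this a
      · push Not at hall
        obtain ⟨o, ho⟩ := hall
        have hu' : u = u o • bv F o := by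
          ext b
          by_cases e : b = o
          · simp [e, bv]
          · have : d.q b = 0 := by_contra fun h => e (hP.2.2 b o h ho)
            simp [bv, e, hz b this]
        have h0 : Q u = 0 := hu
        rw [hu', quad_smul, hR.quad, (hP.2.1 o).resolve_left ho, Int.cast_one, mul_one,
          mul_self_eq_zero] at h0
        rw [h0, zero_smul] at hu'
        have := congrArg (isoApply g⁻¹) hu'
        rw [isoApply_inv_apply, isoApply, Matrix.mulVec_zero] at this
        simpa [bv] using congrFun this a)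
  obtain ⟨l, hl, hlT, hlu⟩ := to_unit Q (eGen d Q) hx hy hxy (hT a haS · · ha) (hT _ hpaS · · hpa)
    hEx hEy (quad_bv hR hP c hc) (quad_bv hR hP _ hpc) hxy' h1 h2 h3 h4
    (hT c hcS · · hc) (hT _ hpcS · · hpc) hr
  have hS1 : ∀ z ∈ T, isoApply (l * k * g) z = z := by
    rintro _ ⟨i, hi, rfl⟩
    rw [isoApply_mul, hg i hi, isoApply_mul, hkT _ ⟨i, hi, rfl⟩, hlT _ ⟨i, hi, rfl⟩]
  have ha1 : isoApply (l * k * g) (bv F a) = bv F a := by
    rw [isoApply_mul, isoApply_mul, hku, hlu]
  obtain ⟨n, hn, hnT, hnx, hny⟩ := to_partner Q (eGen d Q) hx hxy (hT a haS · · ha) (hT _ hpaS · · hpa)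
    hEx (u := isoApply (l * k * g) (bv F (pr a))) (by rw [isoApply_Q (Q := ⇑Q), hy])
    (fun z hz => by
      conv_lhs => rw [← hS1 z hz]
      rw [iso_polar]; exact hT _ hpaS z hz hpa) hy
    (by conv_lhs => rw [← ha1]
        rw [iso_polar, hxy])
  refine ⟨n * (l * k), mul_mem hn (mul_mem hl hk), fun i hi => ?_⟩
  rw [show n * (l * k) * g = n * (l * k * g) by group, isoApply_mul]
  rcases Finset.mem_insert.1 hi with rfl | hi
  · rw [ha1, hnx]
  rcases Finset.mem_insert.1 hi with rfl | hi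
  · exact hny
  · rw [hS1 _ ⟨i, hi, rfl⟩, hnT _ ⟨i, hi, rfl⟩]

end Basic

end CfsgLib.Chev.Ortho
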