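/-
Representations of presented Chevalley groups by Eichler transformations, from decidable checks.
-/
import Mathlib
import Cfsg.Agent.Lib.Chev.Ortho.Frame

set_option autoImplicit false

namespace CfsgLib.Chev.Ortho

open Matrix Cfsg Cfsg.Lie CfsgLib.Classical

universe v

/-- A table of Eichler transformations for the roots of a datum. -/
structure RT (ι : Type) where
  /-- The singular vector, the second vector and the sign of each root. -/
  tb : ℕ → ι × ι × ℤ

variable {ι : Type} [Fintype ι] [DecidableEq ι] {d : FD ι} {T : RT ι} {D : ChevalleyDatum}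
  {co : ℕ → ℕ → ℤ} {F : Type v} [Field F] {Q : QuadraticForm F (ι → F)}

/-- The root element with a monomial parameter. -/
def rootS (d : FD ι) (T : RT ι) (r a b : ℕ) (z : ℤ) : SM ι :=
  sSubst (eichS d (T.tb r).1 (T.tb r).2.1) a b ((T.tb r).2.2 * z)

/-- The vectors of a root are admissible. -/
def rootB (d : FD ι) (T : RT ι) (D : ChevalleyDatum) : Bool :=
  (List.range D.nroots).all fun r => d.q (T.tb r).1 == 0 && d.G (T.tb r).1 (T.tb r).2.1 == 0

/-- The commutator formula of a pair of roots. -/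
def commB (d : FD ι) (T : RT ι) (D : ChevalleyDatum) (r s : ℕ) : Bool :=
  (D.commTerms r s).all (fun c => decide (c.1 < D.nroots)) &&
  sEq (sMul (rootS d T s 0 1 1) (rootS d T r 1 0 1))
    ((D.commTerms r s).foldl
      (fun L c => sMul L (rootS d T c.1 c.2.2.1 c.2.2.2 (c.2.1 * (-1) ^ c.2.2.1)))
      (sMul (rootS d T r 1 0 1) (rootS d T s 0 1 1)))

/-- The commutator formula of all pairs of roots. -/
def commAllB (d : FD ι) (T : RT ι) (D : ChevalleyDatum) : Bool :=
  (List.range D.nroots).all fun r => (List.range D.nroots).all fun s =>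
    s == r || s == D.neg r || commB d T D r s

/-- The torus element of a root. -/
def torusS (d : FD ι) (T : RT ι) (D : ChevalleyDatum) (r : ℕ) : SM ι :=
  sNorm (sMul (sMul (sMul (rootS d T r 1 0 1) (rootS d T (D.neg r) 0 1 (-1))) (rootS d T r 1 0 1))
    (sMul (sMul (rootS d T r 0 0 (-1)) (rootS d T (D.neg r) 0 0 1)) (rootS d T r 0 0 (-1))))

/-- A diagonal symbolic matrix. -/
def diagS (d : FD ι) (e : ι → ℤ) : SM ι :=
  d.en.map fun j => ((j, j, (e j).toNat, (-e j).toNat), 1)

/-- All torus elements are diagonal. -/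
def torusAllB (d : FD ι) (T : RT ι) (D : ChevalleyDatum) (ex : ℕ → ι → ℤ) : Bool :=
  (List.range D.nroots).all fun r => sEq (torusS d T D r) (diagS d (ex r))

/-- The root element of a table as an isometry. -/
noncomputable def rho (T : RT ι) (Q : QuadraticForm F (ι → F)) (r : ℕ) (t : F) : isometryGroup F ⇑Q :=
  ei Q (bv F (T.tb r).1) (((((T.tb r).2.2 : ℤ) : F) * t) • bv F (T.tb r).2.1)

section Rep

variable (hR : Real d Q) (hB : rootB d T D = true)
include hR hB

theorem root_ok {r : ℕ} (hr : r < D.nroots) :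
    d.q (T.tb r).1 = 0 ∧ d.G (T.tb r).1 (T.tb r).2.1 = 0 := by
  rw [rootB, List.all_eq_true] at hB
  simpa using hB r (List.mem_range.2 hr)

theorem rho_matrix {r : ℕ} (hr : r < D.nroots) (t u : F) (a b : ℕ) (z : ℤ) :
    ((rho T Q r ((z : F) * t ^ a * u ^ b) : GL ι F) : Matrix ι ι F) = sEval t u (rootS d T r a b z) := by
  obtain ⟨h1, h2⟩ := root_ok hR hB hr
  rw [rho, eich_matrix hR h1 h2, rootS, sEval_subst, Int.cast_mul]
  congr 1
  ring

theorem rho_add {r : ℕ} (hr : r < D.nroots) (t u : F) :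
    rho T Q r t * rho T Q r u = rho T Q r (t + u) := by
  obtain ⟨h1, h2⟩ := root_ok hR hB hr
  have h : ∀ c : F, QuadraticMap.polar Q (bv F (T.tb r).1) (c • bv F (T.tb r).2.1) = 0 := fun c => by
    rw [QuadraticMap.polar_smul_right, hR.polar, h2, Int.cast_zero, smul_zero]
  rw [rho, rho, rho, ei_mul Q (by rw [hR.quad, h1, Int.cast_zero]) (h _) (h _), ← add_smul, mul_add]

theorem rho_comm (hC : commAllB d T D = true) {r s : ℕ} (hr : r < D.nroots) (hs : s < D.nroots)
    (h1 : s ≠ r) (h2 : s ≠ D.neg r) (t u : F) :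
    rho T Q s u * rho T Q r t = rho T Q r t * rho T Q s u *
      ((D.commWord F r s t u).map fun p => rho T Q p.1 p.2).prod := by
  rw [commAllB, List.all_eq_true] at hC
  have hC' := List.all_eq_true.1 (hC r (List.mem_range.2 hr)) s (List.mem_range.2 hs)
  simp only [beq_false_of_ne h1, beq_false_of_ne h2, Bool.false_or, commB, Bool.and_eq_true,
    List.all_eq_true, decide_eq_true_eq] at hC'
  obtain ⟨hk, hE⟩ := hC'
  have key : ∀ (L : List (ℕ × ℤ × ℕ × ℕ)) (g : isometryGroup F ⇑Q) (S : SM ι),
      (∀ c ∈ L, c.1 < D.nroots) → ((g : GL ι F) : Matrix ι ι F) = sEval t u S →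
      ((g * ((L.map fun c => (c.1, (c.2.1 : F) * (-t) ^ c.2.2.1 * u ^ c.2.2.2)).map
        fun p => rho T Q p.1 p.2).prod : isometryGroup F ⇑Q).1 : Matrix ι ι F) =
      sEval t u (L.foldl
        (fun L c => sMul L (rootS d T c.1 c.2.2.1 c.2.2.2 (c.2.1 * (-1) ^ c.2.2.1))) S) := by
    intro L
    induction L with
    | nil => intro g S _ h; simpa using h
    | cons c L ih =>
      intro g S hL h
      rw [List.map_cons, List.map_cons, List.prod_cons, ← mul_assoc, List.foldl_cons]
      refine ih _ _ (fun c' hc' => hL c' (List.mem_cons_of_mem _ hc')) ?_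
      rw [sEval_mul, ← h, ← rho_matrix hR hB (hL c List.mem_cons_self) t u, Subgroup.coe_mul,
        Units.val_mul]
      congr 4
      rw [neg_pow t, Int.cast_mul, Int.cast_pow, Int.cast_neg, Int.cast_one]
      ring
  refine Subtype.ext (Units.ext ?_)
  have e1 : ((rho T Q s u : GL ι F) : Matrix ι ι F) = sEval t u (rootS d T s 0 1 1) := by
    rw [← rho_matrix hR hB hs t u]; simp
  have e2 : ((rho T Q r t : GL ι F) : Matrix ι ι F) = sEval t u (rootS d T r 1 0 1) := by
    rw [← rho_matrix hR hB hr t u]; simp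
  rw [ChevalleyDatum.commWord, key (D.commTerms r s) (rho T Q r t * rho T Q s u)
    (sMul (rootS d T r 1 0 1) (rootS d T s 0 1 1)) hk
    (by rw [sEval_mul, Subgroup.coe_mul, Units.val_mul, e1, e2]), ← eq_of_sEq t u hE, sEval_mul,
    Subgroup.coe_mul, Units.val_mul, e1, e2]

/-- The torus element of a table. -/
noncomputable def rhoH (T : RT ι) (D : ChevalleyDatum) (Q : QuadraticForm F (ι → F)) (r : ℕ) (t : F) :
    isometryGroup F ⇑Q :=
  rho T Q r t * rho T Q (D.neg r) (-t⁻¹) * rho T Q r t *
    (rho T Q r (-1) * rho T Q (D.neg r) 1 * rho T Q r (-1))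

theorem rhoH_matrix (hF : Facts D co) {ex : ℕ → ι → ℤ} (hT : torusAllB d T D ex = true) {r : ℕ}
    (hr : r < D.nroots) {t : F} (ht : t ≠ 0) :
    ((rhoH T D Q r t : GL ι F) : Matrix ι ι F) = Matrix.diagonal fun j => t ^ ex r j := by
  rw [torusAllB, List.all_eq_true] at hT
  have h := eq_of_sEq t t⁻¹ (hT r (List.mem_range.2 hr))
  rw [torusS, sEval_norm t t⁻¹ (mul_inv_cancel₀ ht)] at h
  simp only [sEval_mul, ← rho_matrix hR hB hr, ← rho_matrix hR hB (hF.neg_lt hr)] at h
  simp only [pow_zero, pow_one, mul_one, Int.cast_one, one_mul, Int.cast_neg, neg_mul] at h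
  rw [rhoH]
  simp only [Subgroup.coe_mul, Units.val_mul]
  rw [h, sEval, diagS, List.map_map, ← List.sum_toFinset _ hR.nodup,
    show d.en.toFinset = Finset.univ from Finset.eq_univ_of_forall fun i => by simp [hR.mem i]]
  ext i j
  rw [Matrix.sum_apply, Finset.sum_eq_single i (fun k _ hk => by simp [sMono, Matrix.single_apply, hk])
    (by simp)]
  by_cases hij : i = j
  · subst hij
    simp only [Function.comp_apply, sMono, Matrix.single_apply, and_self, if_true, Int.cast_one,
      one_mul, Matrix.diagonal_apply_eq]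
    rcases le_or_gt 0 (ex r i) with he | he
    · obtain ⟨n, hn⟩ := Int.eq_ofNat_of_zero_le he
      simp [hn]
    · obtain ⟨n, hn⟩ := Int.exists_eq_neg_ofNat he.le
      simp [hn]
  · simp [sMono, Matrix.single_apply, hij, Matrix.diagonal_apply_ne _ hij]

/-- The homomorphism from the presented group. -/
theorem exists_phi (hF : Facts D co) (hC : commAllB d T D = true) {ex : ℕ → ι → ℤ}
    (hT : torusAllB d T D ex = true) :
    ∃ φ : D.SteinbergGroup F →* isometryGroup F ⇑Q,
      ∀ (r : ℕ) (t : F), r < D.nroots → φ (D.stGen F r t) = rho T Q r t := by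
  have hX : ∀ (r : ℕ) (t : F), r < D.nroots →
      FreeGroup.lift (fun p : Fin D.nroots × F => rho T Q p.1.val p.2) (D.stX r t) = rho T Q r t := fun r t hr => by
    simp [ChevalleyDatum.stX, hr]
  have hW : ∀ w : List (ℕ × F), (∀ p ∈ w, p.1 < D.nroots) →
      FreeGroup.lift (fun p : Fin D.nroots × F => rho T Q p.1.val p.2) (D.stWord w) =
        (w.map fun p => rho T Q p.1 p.2).prod := fun w hw => by
    rw [ChevalleyDatum.stWord, map_list_prod, List.map_map]
    exact congrArg List.prod (List.map_congr_left fun p hp => hX p.1 p.2 (hw p hp))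
  have hH : ∀ (r : ℕ) (t : F), r < D.nroots →
      FreeGroup.lift (fun p : Fin D.nroots × F => rho T Q p.1.val p.2) (D.stH r t) = rhoH T D Q r t := by
    intro r t hr
    rw [ChevalleyDatum.stH, hW]
    · simp [ChevalleyDatum.hWord, ChevalleyDatum.nWord, rhoH, mul_assoc]
    · intro p hp
      simp only [ChevalleyDatum.hWord, ChevalleyDatum.nWord, List.mem_append, List.mem_cons,
        List.not_mem_nil, or_false] at hp
      rcases hp with (rfl | rfl | rfl) | (rfl | rfl | rfl)
      all_goals first | exact hr | exact hF.neg_lt hr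
  have hrel : ∀ g ∈ D.steinbergRels F,
      FreeGroup.lift (fun p : Fin D.nroots × F => rho T Q p.1.val p.2) g = 1 := by
    rintro g ((⟨r, t, u, hr, rfl⟩ | ⟨r, s, t, u, hr, hs, h1, h2, rfl⟩) | ⟨r, t, u, hr, ht, hu, rfl⟩)
    · rw [map_mul, map_mul, map_inv, hX r t hr, hX r u hr, hX r _ hr, rho_add hR hB hr, mul_inv_cancel]
    · have hw : ∀ p ∈ D.commWord F r s t u, p.1 < D.nroots := fun p hp => by
        obtain ⟨c, hc, rfl⟩ := List.mem_map.1 hp
        exact (hF.commTerms_wt hF.isWeight_omega hr hs hc).1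
      simp only [map_mul, map_inv, hX _ _ hr, hX _ _ hs, hW _ hw]
      rw [mul_inv_eq_one, mul_assoc _ (rho T Q s u), rho_comm hR hB hC hr hs h1 h2]
      group
    · rw [map_mul, map_mul, map_inv, hH r t hr, hH r u hr, hH r _ hr, mul_inv_eq_one]
      refine Subtype.ext (Units.ext ?_)
      rw [Subgroup.coe_mul, Units.val_mul, rhoH_matrix hR hB hF hT hr ht, rhoH_matrix hR hB hF hT hr hu,
        rhoH_matrix hR hB hF hT hr (mul_ne_zero ht hu), Matrix.diagonal_mul_diagonal]
      exact congrArg Matrix.diagonal (funext fun j => (mul_zpow _ _ _).symm)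
  exact ⟨PresentedGroup.toGroup hrel, fun r t hr => hX r t hr⟩

end Rep

end CfsgLib.Chev.Ortho
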