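/-
From a table of Eichler transformations to an isomorphism with a projective orthogonal group.
-/
import Mathlib
import Cfsg.Agent.Lib.Chev.Perfect
import Cfsg.Agent.Lib.Chev.StTheta
import Cfsg.Agent.Lib.Chev.Ortho.Rep
import Cfsg.Agent.Lib.Chev.Ortho.Gen

set_option autoImplicit false

namespace CfsgLib.Chev.Ortho

open Matrix Cfsg Cfsg.Lie CfsgLib.Classical

open scoped commutatorElement

universe v

variable {ι : Type} [Fintype ι] [DecidableEq ι] {d : FD ι} {T : RT ι} {D : ChevalleyDatum}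
  {co : ℕ → ℕ → ℤ} {F : Type v} [Field F] {Q : QuadraticForm F (ι → F)}

/-- The table meets every basic Eichler transformation. -/
def spanB (d : FD ι) (T : RT ι) (D : ChevalleyDatum) : Bool :=
  d.en.all fun a => d.en.all fun b => d.q a != 0 || d.G a b != 0 || decide (b = a) ||
    (List.range D.nroots).any fun r =>
      sEq (sSubst (eichS d a b) 1 0 1) (rootS d T r 1 0 1) ||
        sEq (sSubst (eichS d a b) 1 0 1) (rootS d T r 1 0 (-1))

/-- Every root element is a commutator of two others. -/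
def oneB (D : ChevalleyDatum) : Bool :=
  (List.range D.nroots).all fun k => (List.range D.nroots).any fun r => (List.range D.nroots).any fun s =>
    s != r && s != D.neg r &&
      (D.commTerms r s == [(k, 1, 1, 1)] || D.commTerms r s == [(k, -1, 1, 1)])

variable (hR : Real d Q) (hB : rootB d T D = true)
include hR hB

theorem range_eq_eGen (hS : spanB d T D = true) {φ : D.SteinbergGroup F →* isometryGroup F ⇑Q}
    (hφ : ∀ (r : ℕ) (t : F), r < D.nroots → φ (D.stGen F r t) = rho T Q r t) :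
    φ.range = eGen d Q := by
  refine le_antisymm ?_ ((Subgroup.closure_le _).2 ?_)
  · rw [MonoidHom.range_eq_map, ← stClosure_top, stClosure, MonoidHom.map_closure, Subgroup.closure_le]
    rintro _ ⟨x, ⟨r, t, hr, -, rfl⟩, rfl⟩
    obtain ⟨h1, h2⟩ := root_ok hR hB hr
    rw [SetLike.mem_coe, hφ r t hr]
    exact Subgroup.subset_closure ⟨_, _, _, h1, h2, rfl⟩
  rintro _ ⟨a, b, c, ha, hab, rfl⟩
  by_cases hba : b = a
  · subst hba
    have hQ : Q (bv F b) = 0 := by rw [hR.quad, ha, Int.cast_zero]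
    have h := ei_add_self Q (w := (0 : ι → F)) hQ (QuadraticMap.polar_zero_right Q _) c
    rw [zero_add, ei_zero Q hQ] at h
    rw [SetLike.mem_coe, h]
    exact one_mem _
  rw [spanB, List.all_eq_true] at hS
  have h := List.all_eq_true.1 (hS a (hR.mem a)) b (hR.mem b)
  simp only [ha, hab, hba, bne_self_eq_false, decide_false, Bool.or_false, Bool.false_or,
    List.any_eq_true, List.mem_range, Bool.or_eq_true] at h
  obtain ⟨r, hr, h⟩ := h
  have key : ∀ z : ℤ, sEq (sSubst (eichS d a b) 1 0 1) (rootS d T r 1 0 z) = true →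
      ei Q (bv F a) (c • bv F b) = rho T Q r ((z : F) * c) := fun z hz => by
    refine Subtype.ext (Units.ext ?_)
    have e := eq_of_sEq c (1 : F) hz
    rw [sEval_subst, ← rho_matrix hR hB hr] at e
    rw [eich_matrix hR ha hab]
    simpa using e
  rcases h with h | h
  · exact ⟨_, (hφ r _ hr).trans (key 1 h).symm⟩
  · exact ⟨_, (hφ r _ hr).trans (key (-1) h).symm⟩

theorem rho_ne_one {r : ℕ} (hr : r < D.nroots) {t : F} (ht : t ≠ 0) {j : ι}
    (h1 : ((T.tb r).2.2 : F) ≠ 0) (hj : (d.G j (T.tb r).1 : F) = 1)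
    (hj' : j ≠ (T.tb r).2.1) (hne : (T.tb r).2.1 ≠ (T.tb r).1) : rho T Q r t ≠ 1 := fun h => by
  obtain ⟨ha, hab⟩ := root_ok hR hB hr
  have e := congrArg (fun g => isoApply g (bv F j) (T.tb r).2.1) h
  simp only [rho, isoApply_one] at e
  rw [ei_apply Q (by rw [hR.quad, ha, Int.cast_zero])
    (by rw [QuadraticMap.polar_smul_right, hR.polar, hab]; simp), hR.polar, hj] at e
  simp [bv, Ne.symm hj', hne, h1, ht] at e

theorem rho_commutator (hC : commAllB d T D = true) (hO : oneB D = true) {k : ℕ} (hk : k < D.nroots)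
    (w : F) : ∃ r s, r < D.nroots ∧ s < D.nroots ∧ ∃ t u : F,
      rho T Q k w = (rho T Q r t * rho T Q s u)⁻¹ * (rho T Q s u * rho T Q r t) := by
  rw [oneB, List.all_eq_true] at hO
  have h := hO k (List.mem_range.2 hk)
  simp only [List.any_eq_true, List.mem_range, Bool.and_eq_true, bne_iff_ne, Bool.or_eq_true,
    beq_iff_eq] at h
  obtain ⟨r, hr, s, hs, ⟨h1, h2⟩, h⟩ := h
  rcases h with h | h
  · refine ⟨r, s, hr, hs, -w, 1, ?_⟩
    have e := rho_comm hR hB hC hr hs h1 h2 (-w) (1 : F)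
    simp [ChevalleyDatum.commWord, h] at e
    rw [e]; group
  · refine ⟨r, s, hr, hs, w, 1, ?_⟩
    have e := rho_comm hR hB hC hr hs h1 h2 w (1 : F)
    simp [ChevalleyDatum.commWord, h] at e
    rw [e]; group

theorem eGen_le_commutator_of_one (hC : commAllB d T D = true) (hO : oneB D = true)
    (hS : spanB d T D = true) {φ : D.SteinbergGroup F →* isometryGroup F ⇑Q}
    (hφ : ∀ (r : ℕ) (t : F), r < D.nroots → φ (D.stGen F r t) = rho T Q r t) :
    eGen d Q ≤ commutator (isometryGroup F ⇑Q) := by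
  rw [← range_eq_eGen hR hB hS hφ, MonoidHom.range_eq_map, ← stClosure_top, stClosure,
    MonoidHom.map_closure, Subgroup.closure_le]
  rintro _ ⟨x, ⟨k, w, hk, -, rfl⟩, rfl⟩
  obtain ⟨r, s, -, -, t, u, e⟩ := rho_commutator hR hB hC hO hk w
  rw [SetLike.mem_coe, hφ k w hk, e,
    show (rho T Q r t * rho T Q s u)⁻¹ * (rho T Q s u * rho T Q r t) =
      ⁅(rho T Q s u)⁻¹, (rho T Q r t)⁻¹⁆ by rw [commutatorElement_def]; group, commutator_def]
  exact Subgroup.commutator_mem_commutator trivial trivial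

omit hR hB in
/-- The isomorphism, from a map of the presented group onto `Ω`. -/
theorem nonempty_equiv_of_phi (hF : Facts D co) (hC : CommF.{v} D) (hN : HasNbr D)
    (hsimp : IsSimpleGroup ↥(D.group F)) {φ : D.SteinbergGroup F →* isometryGroup F ⇑Q}
    (hrange : φ.range = Omega F ⇑Q)
    (hne : ∃ a b, φ a * φ b ≠ φ b * φ a) : Nonempty (↥(D.group F) ≃* POmega F ⇑Q) := by
  obtain ⟨θ, hθ, hker, -⟩ := hF.exists_surj hC hN (K := F)
  let φ' : D.SteinbergGroup F →* Omega F ⇑Q := φ.codRestrict _ fun x => hrange ▸ ⟨x, rfl⟩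
  have hφ' : Function.Surjective φ' := fun g => by
    obtain ⟨x, hx⟩ : (g : isometryGroup F ⇑Q) ∈ φ.range := hrange.symm ▸ g.2
    exact ⟨x, Subtype.ext hx⟩
  let ψ := (QuotientGroup.mk' (Subgroup.center (Omega F ⇑Q))).comp φ'
  have hψ : Function.Surjective ψ := (QuotientGroup.mk'_surjective _).comp hφ'
  have hle : θ.ker ≤ ψ.ker := by
    rw [hker]
    intro z hz
    rw [MonoidHom.mem_ker, MonoidHom.comp_apply, QuotientGroup.mk'_apply, QuotientGroup.eq_one_iff,
      Subgroup.mem_center_iff]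
    intro y
    obtain ⟨x, rfl⟩ := hφ' y
    rw [← map_mul, ← map_mul, Subgroup.mem_center_iff.1 hz x]
  have hnt : ψ.ker ≠ ⊤ := by
    obtain ⟨a, b, hab⟩ := hne
    intro h
    have ha : φ' a ∈ Subgroup.center (Omega F ⇑Q) := by
      rw [← QuotientGroup.eq_one_iff]
      exact (MonoidHom.mem_ker (f := ψ)).1 (h ▸ trivial)
    exact hab (congrArg Subtype.val (Subgroup.mem_center_iff.1 ha (φ' b))).symm
  have hn : (ψ.ker.map θ).Normal := Subgroup.Normal.map inferInstance θ hθ
  rcases hsimp.eq_bot_or_eq_top_of_normal _ hn with h | h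
  · have he : θ.ker = ψ.ker := le_antisymm hle ((Subgroup.map_eq_bot_iff _).1 h)
    exact ⟨(QuotientGroup.quotientKerEquivOfSurjective θ hθ).symm.trans
      ((QuotientGroup.quotientMulEquivOfEq he).trans (QuotientGroup.quotientKerEquivOfSurjective ψ hψ))⟩
  · exact absurd (by
      rw [← Subgroup.comap_map_eq_self hle, h, Subgroup.comap_top]) hnt

end CfsgLib.Chev.Ortho
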