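/-
Tables of Eichler transformations for the roots of types B₂ and D₄.
-/
import Mathlib
import Cfsg.Prelude.Def_ChevB2
import Cfsg.Prelude.Def_ChevD4
import Cfsg.Agent.Lib.Classical.QuadStd
import Cfsg.Agent.Lib.Chev.Ortho.Rep

set_option autoImplicit false
-- one check at a time: evaluated together they need three times the memory
set_option Elab.async false

namespace CfsgLib.Chev.Ortho

open Matrix Cfsg Cfsg.Lie CfsgLib.Classical

universe v

/-- Gram data of `x₀² + x₁y₁ + x₂y₂`. -/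
def fdB : FD (OddI 2) where
  en := [oZ, oL 0, oL 1, oR 0, oR 1]
  G i j := if i = oZ then (if j = oZ then 2 else 0)
    else if (∃ k, (i = oL k ∧ j = oR k) ∨ (i = oR k ∧ j = oL k)) then 1 else 0
  q i := if i = oZ then 1 else 0

/-- Gram data of the hyperbolic form in eight dimensions. -/
def fdD : FD (Fin 4 ⊕ Fin 4) where
  en := [.inl 0, .inl 1, .inl 2, .inl 3, .inr 0, .inr 1, .inr 2, .inr 3]
  G i j := if (∃ k, (i = .inl k ∧ j = .inr k) ∨ (i = .inr k ∧ j = .inl k)) then 1 else 0
  q _ := 0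

/-- The table of type B₂. -/
def rtB : RT (OddI 2) where
  tb r := (#[(oR 0, oR 1, -1), (oR 0, oZ, 1), (oR 1, oZ, -1), (oR 0, oL 1, -1), (oL 0, oR 1, 1), (oL 1, oZ, 1), (oL 0, oZ, -1), (oL 0, oL 1, 1)] : Array (OddI 2 × OddI 2 × ℤ)).getD r (oZ, oZ, 0)

/-- The table of type D₄. -/
def rtD : RT (Fin 4 ⊕ Fin 4) where
  tb r := (#[(.inr 0, .inr 1, -1), (.inr 0, .inr 2, -1), (.inr 0, .inl 3, -1), (.inr 0, .inr 3, -1), (.inr 0, .inl 2, 1), (.inr 0, .inl 1, -1), (.inr 1, .inr 2, -1), (.inr 1, .inl 3, -1), (.inr 1, .inr 3, -1), (.inr 1, .inl 2, 1), (.inr 2, .inl 3, 1), (.inr 2, .inr 3, 1), (.inl 2, .inl 3, -1), (.inl 2, .inr 3, -1), (.inl 1, .inr 2, -1), (.inl 1, .inl 3, 1), (.inl 1, .inr 3, 1), (.inl 1, .inl 2, 1), (.inl 0, .inr 1, 1), (.inl 0, .inr 2, -1), (.inl 0, .inl 3, 1), (.inl 0, .inr 3, 1), (.inl 0, .inl 2, 1), (.inl 0, .inl 1, 1)] : Array ((Fin 4 ⊕ Fin 4) × (Fin 4 ⊕ Fin 4) × ℤ)).getD r (.inl 0, .inl 0, 0)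

/-- The weights of the torus elements of type B₂ on the coordinates. -/
def exB (r : ℕ) : OddI 2 → ℤ :=
  let v := (#[#[-1, -1], #[-2, 0], #[0, -2], #[-1, 1], #[1, -1], #[0, 2], #[2, 0], #[1, 1]] : Array (Array ℤ)).getD r #[]
  Sum.elim (fun _ => 0) (Sum.elim (fun i => v.getD i.val 0) (fun i => -v.getD i.val 0))

/-- The weights of the torus elements of type D₄ on the coordinates. -/
def exD (r : ℕ) : Fin 4 ⊕ Fin 4 → ℤ :=
  let v := (#[#[-1, -1, 0, 0], #[-1, 0, -1, 0], #[-1, 0, 0, 1], #[-1, 0, 0, -1], #[-1, 0, 1, 0], #[-1, 1, 0, 0], #[0, -1, -1, 0], #[0, -1, 0, 1], #[0, -1, 0, -1], #[0, -1, 1, 0], #[0, 0, -1, 1], #[0, 0, -1, -1], #[0, 0, 1, 1], #[0, 0, 1, -1], #[0, 1, -1, 0], #[0, 1, 0, 1], #[0, 1, 0, -1], #[0, 1, 1, 0], #[1, -1, 0, 0], #[1, 0, -1, 0], #[1, 0, 0, 1], #[1, 0, 0, -1], #[1, 0, 1, 0], #[1, 1, 0, 0]] : Array (Array ℤ)).getD r #[]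
  Sum.elim (fun i => v.getD i.val 0) (fun i => -v.getD i.val 0)

theorem rootB_B : rootB fdB rtB chevB2 = true := by decide +kernel
theorem rootB_D : rootB fdD rtD chevD4 = true := by decide +kernel
/-- The torus element of one root of type B₂. -/
def torusB1 (r : ℕ) : Bool := sEq (torusS fdB rtB chevB2 r) (diagS fdB (exB r))

theorem torusB1_0 : torusB1 0 = true := by decide +kernel
theorem torusB1_1 : torusB1 1 = true := by decide +kernel
theorem torusB1_2 : torusB1 2 = true := by decide +kernel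
theorem torusB1_3 : torusB1 3 = true := by decide +kernel
theorem torusB1_4 : torusB1 4 = true := by decide +kernel
theorem torusB1_5 : torusB1 5 = true := by decide +kernel
theorem torusB1_6 : torusB1 6 = true := by decide +kernel
theorem torusB1_7 : torusB1 7 = true := by decide +kernel

theorem torusAllB_B : torusAllB fdB rtB chevB2 exB = true := by
  rw [torusAllB, List.all_eq_true]
  intro r hr
  have hr' : r < 8 := List.mem_range.1 hr
  show torusB1 r = true
  interval_cases r
  · exact torusB1_0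
  · exact torusB1_1
  · exact torusB1_2
  · exact torusB1_3
  · exact torusB1_4
  · exact torusB1_5
  · exact torusB1_6
  · exact torusB1_7

/-- The torus elements of a range of roots of type D₄. -/
def torusRangeB (lo len : ℕ) : Bool :=
  (List.range' lo len).all fun r => sEq (torusS fdD rtD chevD4 r) (diagS fdD (exD r))

theorem torusRangeB_0 : torusRangeB 0 6 = true := by decide +kernel
theorem torusRangeB_1 : torusRangeB 6 6 = true := by decide +kernel
theorem torusRangeB_2 : torusRangeB 12 6 = true := by decide +kernel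
theorem torusRangeB_3 : torusRangeB 18 6 = true := by decide +kernel

theorem torusAllB_D : torusAllB fdD rtD chevD4 exD = true := by
  rw [torusAllB, List.all_eq_true]
  intro r hr
  have hr' : r < 24 := List.mem_range.1 hr
  have key : ∀ lo, torusRangeB lo 6 = true → lo ≤ r → r < lo + 6 →
      sEq (torusS fdD rtD chevD4 r) (diagS fdD (exD r)) = true :=
    fun lo h h1 h2 => List.all_eq_true.1 h r (List.mem_range'_1.2 ⟨h1, h2⟩)
  rcases (by omega : r < 6 ∨ (6 ≤ r ∧ r < 12) ∨ (12 ≤ r ∧ r < 18) ∨ (18 ≤ r ∧ r < 24)) with h | h | h | h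
  · exact key 0 torusRangeB_0 (Nat.zero_le _) h
  · exact key 6 torusRangeB_1 h.1 h.2
  · exact key 12 torusRangeB_2 h.1 h.2
  · exact key 18 torusRangeB_3 h.1 h.2

theorem commAllB_B : commAllB fdB rtB chevB2 = true := by decide +kernel
/-- The commutator formula for a range of first roots of type D₄. -/
def commRangeB (lo len : ℕ) : Bool :=
  (List.range' lo len).all fun r => (List.range chevD4.nroots).all fun s =>
    s == r || s == chevD4.neg r || commB fdD rtD chevD4 r s

theorem commRangeB_0 : commRangeB 0 3 = true := by decide +kernel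
theorem commRangeB_1 : commRangeB 3 3 = true := by decide +kernel
theorem commRangeB_2 : commRangeB 6 3 = true := by decide +kernel
theorem commRangeB_3 : commRangeB 9 3 = true := by decide +kernel
theorem commRangeB_4 : commRangeB 12 3 = true := by decide +kernel
theorem commRangeB_5 : commRangeB 15 3 = true := by decide +kernel
theorem commRangeB_6 : commRangeB 18 3 = true := by decide +kernel
theorem commRangeB_7 : commRangeB 21 3 = true := by decide +kernel

theorem commAllB_D : commAllB fdD rtD chevD4 = true := by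
  rw [commAllB, List.all_eq_true]
  intro r hr
  have hr' : r < 24 := List.mem_range.1 hr
  have key : ∀ lo, commRangeB lo 3 = true → lo ≤ r → r < lo + 3 →
      ((List.range chevD4.nroots).all fun s => s == r || s == chevD4.neg r || commB fdD rtD chevD4 r s) = true :=
    fun lo h h1 h2 => List.all_eq_true.1 h r (List.mem_range'_1.2 ⟨h1, h2⟩)
  rcases (by omega : r < 3 ∨ (3 ≤ r ∧ r < 6) ∨ (6 ≤ r ∧ r < 9) ∨ (9 ≤ r ∧ r < 12) ∨ (12 ≤ r ∧ r < 15) ∨
      (15 ≤ r ∧ r < 18) ∨ (18 ≤ r ∧ r < 21) ∨ (21 ≤ r ∧ r < 24)) with h | h | h | h | h | h | h | h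
  · exact key 0 commRangeB_0 (Nat.zero_le _) h
  · exact key 3 commRangeB_1 h.1 h.2
  · exact key 6 commRangeB_2 h.1 h.2
  · exact key 9 commRangeB_3 h.1 h.2
  · exact key 12 commRangeB_4 h.1 h.2
  · exact key 15 commRangeB_5 h.1 h.2
  · exact key 18 commRangeB_6 h.1 h.2
  · exact key 21 commRangeB_7 h.1 h.2

end CfsgLib.Chev.Ortho
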