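/-
`B₂(F) ≅ PΩ₅(F)` for fields with more than two elements.
-/
import Mathlib
import Cfsg.Agent.Lib.Chev.Ortho.Tables
import Cfsg.Agent.Lib.Chev.Ortho.Main

set_option autoImplicit false

namespace CfsgLib.Chev.Ortho

open Matrix Cfsg Cfsg.Lie CfsgLib.Classical

open scoped commutatorElement

universe v

variable {F : Type v} [Field F]

/-- The partner of a coordinate. -/
def prB : OddI 2 → OddI 2 := Sum.map id Sum.swap

theorem split_B : Split fdB prB := by decide +kernel

theorem cases_B : ∀ i : OddI 2, i = oZ ∨ i = oL 0 ∨ i = oR 0 ∨ i = oL 1 ∨ i = oR 1 := by decide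

theorem real_B : Real fdB (qOdd 2 F) := by
  refine ⟨by decide, fun i => ?_, fun i j => ?_, fun i => ?_⟩
  · rcases cases_B i with rfl | rfl | rfl | rfl | rfl <;> simp [fdB]
  · rw [QuadraticMap.polar, qOdd_apply, qOdd_apply, qOdd_apply]
    rcases cases_B i with rfl | rfl | rfl | rfl | rfl <;> rcases cases_B j with rfl | rfl | rfl | rfl | rfl <;>
      simp [bv, Fin.sum_univ_two, fdB, Pi.single_apply, oL, oR, oZ] <;> norm_num
  · rw [qOdd_apply]
    rcases cases_B i with rfl | rfl | rfl | rfl | rfl <;>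
      simp [bv, Fin.sum_univ_two, fdB, Pi.single_apply, oL, oR, oZ]

theorem bvB_ext {Q : (OddI 2 → F) → F} {g h : isometryGroup F Q}
    (H : ∀ i, isoApply g (bv F i) = isoApply h (bv F i)) : g = h :=
  Subtype.ext (Units.ext (Matrix.ext_of_mulVec_single fun i => H i))

/-- A diagonal isometry. -/
def DiagB (g : isometryGroup F ⇑(qOdd 2 F)) : Prop :=
  ∀ i, ∃ c : F, isoApply g (bv F i) = c • bv F i

theorem gen_B (g : isometryGroup F ⇑(qOdd 2 F)) : ∃ e ∈ eGen fdB (qOdd 2 F), DiagB (e * g) := by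
  have hR := real_B (F := F)
  have hP := split_B
  obtain ⟨e₁, he₁, h₁⟩ := step_pair hR hP (g := g) ∅ (by simp) (by simp)
    (a := oL 0) (c := oL 1) (by decide) (by simp) (by decide) (by simp) (by decide) (by decide)
  generalize hk : e₁ * g = k at h₁
  have hk0 : isoApply k (bv F (oL 0)) = bv F (oL 0) := h₁ _ (by simp)
  have hk0' : isoApply k (bv F (oR 0)) = bv F (oR 0) := h₁ _ (by simp [prB, oL, oR])
  set T : Set (OddI 2 → F) := {bv F (oL 0), bv F (oR 0)} with hT
  have hG : ∀ i j, fdB.G i j = 0 → QuadraticMap.polar (qOdd 2 F) (bv F i) (bv F j) = 0 := fun i j h => by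
    rw [hR.polar, h, Int.cast_zero]
  have hperp : ∀ i, fdB.G i (oL 0) = 0 → fdB.G i (oR 0) = 0 →
      ∀ z ∈ T, QuadraticMap.polar (qOdd 2 F) (bv F i) z = 0 := by
    rintro i a b z (rfl | rfl)
    · exact hG _ _ a
    · exact hG _ _ b
  have hx := quad_bv hR hP (oL 1) (by decide)
  have hy := quad_bv hR hP (oR 1) (by decide)
  have hxy : QuadraticMap.polar (qOdd 2 F) (bv F (oL 1)) (bv F (oR 1)) = 1 := by
    rw [hR.polar]; simp [fdB, oL, oR, oZ]
  have hTk : ∀ i, fdB.G i (oL 0) = 0 → fdB.G i (oR 0) = 0 →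
      ∀ z ∈ T, QuadraticMap.polar (qOdd 2 F) (isoApply k (bv F i)) z = 0 := by
    rintro i a b z (rfl | rfl)
    · conv_lhs => rw [← hk0]
      rw [iso_polar]; exact hG _ _ a
    · conv_lhs => rw [← hk0']
      rw [iso_polar]; exact hG _ _ b
  set u := isoApply k (bv F (oL 1)) with hu
  have hQu : qOdd 2 F u = 0 := by rw [hu, isoApply_Q (Q := ⇑(qOdd 2 F)), hx]
  obtain ⟨l, hl, c, hc, hlT, hlu⟩ := to_x (qOdd 2 F) (eGen fdB (qOdd 2 F)) hx hy hxy
    (hperp (oL 1) (by decide) (by decide)) (hperp (oR 1) (by decide) (by decide))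
    (fun w h => ei_mem_eGen hR hP (by decide) h) (fun w h => ei_mem_eGen hR hP (by decide) h)
    hQu (hTk _ (by decide) (by decide)) (w₀ := bv F oZ)
    (by rw [hR.quad]; simp [fdB]) (hG _ _ (by decide)) (hG _ _ (by decide))
    (hperp oZ (by decide) (by decide)) (fun hb hb' => by
      exfalso
      have z0 : u (oR 1) = 0 := by
        have := hb; rwa [polar_coord' hR hP _ (by decide)] at this
      have z1 : u (oL 1) = 0 := by
        have := hb'; rwa [polar_coord' hR hP _ (by decide)] at this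
      have z2 : u (oR 0) = 0 := by
        have := hTk (oL 1) (by decide) (by decide) _ (Or.inl rfl); rwa [← hu, polar_coord' hR hP _ (by decide)] at this
      have z3 : u (oL 0) = 0 := by
        have := hTk (oL 1) (by decide) (by decide) _ (Or.inr rfl); rwa [← hu, polar_coord' hR hP _ (by decide)] at this
      have hu' : u = u oZ • bv F oZ := by
        ext i
        rcases cases_B i with rfl | rfl | rfl | rfl | rfl <;> simp [bv, z0, z1, z2, z3, oL, oR, oZ] at *
        all_goals simp [*]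
      have h0 := hQu
      rw [hu', quad_smul, hR.quad] at h0
      simp [fdB] at h0
      rw [h0, zero_smul, hu] at hu'
      have := congrArg (isoApply k⁻¹) hu'
      rw [isoApply_inv_apply, isoApply, Matrix.mulVec_zero] at this
      simpa [bv] using congrFun this (oL 1))
  have hm : ∀ (g : isometryGroup F ⇑(qOdd 2 F)) (a : F) (x : OddI 2 → F),
      isoApply g (a • x) = a • isoApply g x := fun g a x => Matrix.mulVec_smul _ _ _
  have hQv : qOdd 2 F (c • isoApply (l * k) (bv F (oR 1))) = 0 := by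
    rw [quad_smul, isoApply_Q (Q := ⇑(qOdd 2 F)), hy, mul_zero]
  have hlk : ∀ z ∈ T, isoApply (l * k) z = z := by
    rintro z (rfl | rfl)
    · rw [isoApply_mul, hk0, hlT _ (Or.inl rfl)]
    · rw [isoApply_mul, hk0', hlT _ (Or.inr rfl)]
  have hlk1 : isoApply (l * k) (bv F (oL 1)) = c • bv F (oL 1) := by rw [isoApply_mul, ← hu, hlu]
  obtain ⟨n, hn, hnT, hnx, hny⟩ := to_partner (qOdd 2 F) (eGen fdB (qOdd 2 F)) hx hxy
    (hperp (oL 1) (by decide) (by decide)) (hperp (oR 1) (by decide) (by decide))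
    (fun w h => ei_mem_eGen hR hP (by decide) h) hQv
    (fun z hz => by
      conv_lhs => rw [← hlk z hz]
      rw [QuadraticMap.polar_smul_left, iso_polar, hperp (oR 1) (by decide) (by decide) z hz, smul_zero])
    hy (by
      rw [QuadraticMap.polar_smul_right, ← QuadraticMap.polar_smul_left, ← hlk1, iso_polar, hxy])
  refine ⟨n * (l * e₁), mul_mem hn (mul_mem hl he₁), ?_⟩
  rw [show n * (l * e₁) * g = n * (l * k) by rw [← hk]; group]
  generalize hf : n * (l * k) = f
  have f0 : isoApply f (bv F (oL 0)) = bv F (oL 0) := by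
    rw [← hf, isoApply_mul, hlk _ (Or.inl rfl), hnT _ (Or.inl rfl)]
  have f0' : isoApply f (bv F (oR 0)) = bv F (oR 0) := by
    rw [← hf, isoApply_mul, hlk _ (Or.inr rfl), hnT _ (Or.inr rfl)]
  have f1 : isoApply f (bv F (oL 1)) = c • bv F (oL 1) := by rw [← hf, isoApply_mul, hlk1, hm, hnx]
  have f1' : c • isoApply f (bv F (oR 1)) = bv F (oR 1) := by rw [← hf, isoApply_mul, ← hm, hny]
  intro i
  rcases cases_B i with rfl | rfl | rfl | rfl | rfl
  · refine ⟨isoApply f (bv F oZ) oZ, ?_⟩
    have key : ∀ b, fdB.q b = 0 → ∀ e : F, e ≠ 0 → e • isoApply f (bv F b) = bv F b ∨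
        isoApply f (bv F b) = e • bv F b → isoApply f (bv F oZ) (prB b) = 0 := by
      intro b hb e he h
      rw [← polar_coord' hR hP b hb (isoApply f (bv F oZ))]
      have h0 : QuadraticMap.polar (qOdd 2 F) (bv F oZ) (bv F b) = 0 := hG _ _ ((by decide : ∀ k, fdB.q k = 0 → fdB.G oZ k = 0) b hb)
      rcases h with h | h
      · rw [← h, QuadraticMap.polar_smul_right, iso_polar, h0, smul_zero]
      · have : QuadraticMap.polar (qOdd 2 F) (isoApply f (bv F oZ)) (e • bv F b) = 0 := by
          rw [← h, iso_polar, h0]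
        rw [QuadraticMap.polar_smul_right] at this
        exact (smul_eq_zero.1 this).resolve_left he
    ext j
    rcases cases_B j with rfl | rfl | rfl | rfl | rfl
    · simp [bv]
    · have := key (oR 0) (by decide) 1 one_ne_zero (Or.inr (by rw [f0', one_smul]))
      simpa [prB, oL, oR, oZ, bv] using this
    · have := key (oL 0) (by decide) 1 one_ne_zero (Or.inr (by rw [f0, one_smul]))
      simpa [prB, oL, oR, oZ, bv] using this
    · have := key (oR 1) (by decide) c hc (Or.inl f1')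
      simpa [prB, oL, oR, oZ, bv] using this
    · have := key (oL 1) (by decide) c hc (Or.inr f1)
      simpa [prB, oL, oR, oZ, bv] using this
  · exact ⟨1, by rw [f0, one_smul]⟩
  · exact ⟨1, by rw [f0', one_smul]⟩
  · exact ⟨c, f1⟩
  · exact ⟨c⁻¹, by rw [← f1', smul_smul, inv_mul_cancel₀ hc, one_smul, f1']⟩

/-- Scale a pair of coordinates. -/
noncomputable def scaleB (a : OddI 2) (s : F) (j : OddI 2) : F :=
  if j = a then s else if j = prB a then s⁻¹ else 1

theorem eGen_le_commutator_B (hF : ∃ a : F, a ≠ 0 ∧ a ≠ 1) :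
    eGen fdB (qOdd 2 F) ≤ commutator (isometryGroup F ⇑(qOdd 2 F)) := by
  obtain ⟨s, hs0, hs1⟩ := hF
  have hR := real_B (F := F)
  rw [eGen, Subgroup.closure_le]
  rintro _ ⟨a, b, c, ha, hab, rfl⟩
  have hQa := quad_bv hR split_B a ha
  by_cases hba : b = a
  · subst hba
    have h := ei_add_self (qOdd 2 F) (w := (0 : OddI 2 → F)) hQa (QuadraticMap.polar_zero_right _ _) c
    rw [zero_add, ei_zero _ hQa] at h
    rw [SetLike.mem_coe, h]
    exact one_mem _
  have haZ : a ≠ oZ := (by decide : ∀ k, fdB.q k = 0 → k ≠ oZ) a ha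
  have hapr : a ≠ prB a := (by decide : ∀ k, fdB.q k = 0 → k ≠ prB k) a ha
  let f : (OddI 2 → F) →ₗ[F] (OddI 2 → F) :=
    { toFun := fun v j => scaleB a s j * v j
      map_add' := fun v w => funext fun j => mul_add _ _ _
      map_smul' := fun r v => funext fun j => mul_left_comm _ _ _ }
  have hne : ∀ j, scaleB a s j ≠ 0 := fun j => by
    unfold scaleB; split_ifs <;> simp [hs0]
  have hQf : ∀ x, qOdd 2 F (f x) = qOdd 2 F x := by
    intro x
    rw [qOdd_apply, qOdd_apply]
    rcases cases_B a with rfl | rfl | rfl | rfl | rfl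
    · exact absurd rfl haZ
    all_goals
      simp [f, scaleB, prB, oL, oR, oZ, Fin.sum_univ_two]
      field_simp
  let D : isometryGroup F ⇑(qOdd 2 F) := isoMk (Q := ⇑(qOdd 2 F)) f
    (fun v w e => funext fun j => mul_left_cancel₀ (hne j) (congrFun e j)) hQf
  have hD : ∀ (j : OddI 2) (t : F), isoApply D (t • bv F j) = (scaleB a s j * t) • bv F j := fun j t => by
    refine (isoMk_apply (Q := ⇑(qOdd 2 F)) f _ hQf _).trans ?_
    ext k
    show scaleB a s k * (t • bv F j) k = ((scaleB a s j * t) • bv F j) k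
    by_cases h : k = j <;> simp [bv, h]
  have hb : scaleB a s b = 1 := by
    have : b ≠ prB a := fun e => by
      subst e
      have := (split_B.1 a ha).2.2.2.1
      omega
    simp [scaleB, hba, this]
  have hsa : scaleB a s a = s := by simp [scaleB]
  have hpol : ∀ w : F, QuadraticMap.polar (qOdd 2 F) (bv F a) (w • bv F b) = 0 := fun w => by
    rw [QuadraticMap.polar_smul_right, hR.polar, hab]; simp
  have hconj : D * ei (qOdd 2 F) (bv F a) ((c / (s - 1)) • bv F b) * D⁻¹ *
      (ei (qOdd 2 F) (bv F a) ((c / (s - 1)) • bv F b))⁻¹ = ei (qOdd 2 F) (bv F a) (c • bv F b) := by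
    have e := hD a 1
    rw [one_smul, hsa, mul_one] at e
    rw [ei_conj _ D hQa (hpol _), e, hD, hb, one_mul, ei_smul_left _ hQa (hpol _), smul_smul,
      mul_inv_eq_iff_eq_mul, ei_mul _ hQa (hpol _) (hpol _), ← add_smul]
    congr 2
    have : s - 1 ≠ 0 := sub_ne_zero.2 hs1
    field_simp
    ring
  rw [SetLike.mem_coe, ← hconj, ← commutatorElement_def, commutator_def]
  exact Subgroup.commutator_mem_commutator trivial trivial

theorem nonempty_equiv_B (hq : ∃ a : F, a ≠ 0 ∧ a ≠ 1) :
    Nonempty (↥(chevB2.group F) ≃* POmega F (quadFormOdd 2 F)) := by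
  rw [← coe_qOdd]
  obtain ⟨⟨co, hF⟩, hC⟩ := good_B2.{v}
  have hR := real_B (F := F)
  obtain ⟨φ, hφ⟩ := exists_phi (F := F) hR rootB_B hF commAllB_B torusAllB_B
  have hS : spanB fdB rtB chevB2 = true := by decide +kernel
  have hrange : φ.range = Omega F ⇑(qOdd 2 F) := by
    rw [range_eq_eGen hR rootB_B hS hφ]
    refine le_antisymm (eGen_le_commutator_B hq)
      (commutator_le_eGen hR split_B DiagB (fun g hg i => (hg i).elim fun c hc => ⟨i, c, hc⟩) gen_B ?_)
    intro g g' hg hg'
    have : g * g' = g' * g := bvB_ext fun i => by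
      obtain ⟨a, ha⟩ := hg i
      obtain ⟨b, hb⟩ := hg' i
      have hm : ∀ (g : isometryGroup F ⇑(qOdd 2 F)) (a : F) (x : OddI 2 → F),
          isoApply g (a • x) = a • isoApply g x := fun g a x => Matrix.mulVec_smul _ _ _
      rw [isoApply_mul, isoApply_mul, ha, hb, hm, hm, ha, hb, smul_smul, smul_smul, mul_comm]
    rw [commutatorElement_eq_one_iff_mul_comm.2 this]
    exact one_mem _
  refine nonempty_equiv_of_phi hF hC (hasNbr_of_mem (by simp))
    (simple_of_perfect good_B2 linked_B2 (perfect_B2 hq)).1 hrange ?_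
  refine ⟨chevB2.stGen F 5 1, chevB2.stGen F 4 1, fun h => ?_⟩
  rw [hφ 5 1 (by decide), hφ 4 1 (by decide)] at h
  have e := congrFun (congrArg (fun g => isoApply g (bv F (oR 0))) h) oZ
  simp only [isoApply_mul] at e
  have t5 : rtB.tb 5 = (oL 1, oZ, 1) := rfl
  have t4 : rtB.tb 4 = (oL 0, oR 1, 1) := rfl
  have q1 : qOdd 2 F (bv F (oL 1)) = 0 := quad_bv hR split_B _ (by decide)
  have q0 : qOdd 2 F (bv F (oL 0)) = 0 := quad_bv hR split_B _ (by decide)
  have p5 : QuadraticMap.polar (qOdd 2 F) (bv F (oL 1)) (bv F oZ) = 0 := by rw [hR.polar]; simp [fdB, oL, oR, oZ]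
  have p4 : QuadraticMap.polar (qOdd 2 F) (bv F (oL 0)) (bv F (oR 1)) = 0 := by rw [hR.polar]; simp [fdB, oL, oR, oZ]
  simp only [rho, t5, t4, Int.cast_one, one_mul, one_smul] at e
  rw [ei_apply _ q1 p5, ei_apply _ q0 p4, ei_apply _ q1 p5, ei_apply _ q0 p4] at e
  simp only [QuadraticMap.polar_add_left, QuadraticMap.polar_sub_left, QuadraticMap.polar_smul_left, hR.polar,
    hR.quad] at e
  simp [fdB, bv, oL, oR, oZ, Pi.single_apply] at e

end CfsgLib.Chev.Ortho
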