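/-
`B₂(2) ≅ S₆`.
-/
import Mathlib
import Cfsg.Agent.Lib.Chev.Orders
import Cfsg.Agent.Lib.Chev.Ortho.B2
import Cfsg.Agent.Lib.Classical.QuadOddTwo
import Cfsg.Agent.S0247

set_option autoImplicit false

namespace CfsgLib.Chev.Ortho

open Matrix Cfsg Cfsg.Lie CfsgLib.Classical

universe v

variable {F : Type v} [Field F] [Fintype F]

theorem nonempty_equiv_B_two (hF : Fintype.card F = 2) :
    Nonempty (↥(chevB2.group F) ≃* Equiv.Perm (Fin 6)) := by
  classical
  haveI : CharP F 2 := charP_of_card_eq_prime hF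
  have huniv : ∀ c : F, c = 0 ∨ c = 1 := fun c => by
    by_contra h
    push Not at h
    have : ({0, 1, c} : Finset F).card ≤ Fintype.card F := Finset.card_le_univ _
    rw [Finset.card_insert_of_notMem (by simp [h.1.symm]),
      Finset.card_pair h.2.symm, hF] at this
    omega
  obtain ⟨⟨co, hc⟩, hC⟩ := good_B2.{v}
  have hR := real_B (F := F)
  obtain ⟨φ, hφ⟩ := exists_phi (F := F) hR rootB_B hc commAllB_B torusAllB_B
  obtain ⟨e₁⟩ := nonempty_oddToSp (F := F) (m := 2)
  obtain ⟨e₂⟩ := Cfsg.Agent.S0247.result (F := F) hF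
  let E := e₁.trans e₂
  have hdiag : ∀ g : isometryGroup F ⇑(qOdd 2 F), DiagB g → g = 1 := fun g hg => bvB_ext fun i => by
    obtain ⟨c, hc⟩ := hg i
    rcases huniv c with rfl | rfl
    · rw [zero_smul] at hc
      have := congrArg (isoApply g⁻¹) hc
      rw [isoApply_inv_apply, isoApply, Matrix.mulVec_zero] at this
      exact absurd (congrFun this i) (by simp [bv])
    · rw [hc, one_smul, isoApply_one]
  have hsurj : Function.Surjective φ := fun g => by
    obtain ⟨e, he, hd⟩ := gen_B g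
    rw [← MonoidHom.mem_range, range_eq_eGen hR rootB_B (by decide +kernel) hφ,
      eq_inv_of_mul_eq_one_right (hdiag _ hd)]
    exact inv_mem he
  let ψ : chevB2.SteinbergGroup F →* Equiv.Perm (Fin 6) := E.toMonoidHom.comp φ
  have hψ : Function.Surjective ψ := E.surjective.comp hsurj
  obtain ⟨θ, hθ, hker, -⟩ := hc.exists_surj hC (hasNbr_of_mem (by simp)) (K := F)
  have hle : θ.ker ≤ ψ.ker := by
    rw [hker]
    intro z hz
    rw [MonoidHom.mem_ker]
    have hc : ψ z ∈ Subgroup.center (Equiv.Perm (Fin 6)) := Subgroup.mem_center_iff.2 fun y => by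
      obtain ⟨x, rfl⟩ := hψ y
      rw [← map_mul, ← map_mul, Subgroup.mem_center_iff.1 hz x]
    refine Equiv.ext fun a => ?_
    by_contra hne
    obtain ⟨c, hca, hcz⟩ : ∃ c : Fin 6, c ≠ a ∧ c ≠ ψ z a :=
      (by decide : ∀ a b : Fin 6, ∃ c, c ≠ a ∧ c ≠ b) a (ψ z a)
    have h := congrArg (fun f : Equiv.Perm (Fin 6) => f a) (Subgroup.mem_center_iff.1 hc (Equiv.swap (ψ z a) c))
    simp only [Equiv.Perm.mul_apply, Equiv.swap_apply_left,
      Equiv.swap_apply_of_ne_of_ne (Ne.symm hne) hca.symm] at h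
    rw [Equiv.swap_apply_of_ne_of_ne (fun e => hne (e.symm.trans (Equiv.Perm.one_apply a).symm)) hca.symm] at h
    exact hcz h
  let χ : ↥(chevB2.group F) →* Equiv.Perm (Fin 6) := θ.liftOfSurjective hθ ⟨ψ, hle⟩
  have hχ : Function.Surjective χ := fun y => by
    obtain ⟨x, rfl⟩ := hψ y
    exact ⟨θ x, MonoidHom.liftOfRightInverse_comp_apply _ _ _ ⟨ψ, hle⟩ x⟩
  refine ⟨MulEquiv.ofBijective χ ((Nat.bijective_iff_surjective_and_card χ).2 ⟨hχ, ?_⟩)⟩
  have := order_B2 (F := F)
  rw [Nat.card_eq_fintype_card (α := F), hF] at this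
  rw [Nat.card_perm, Nat.card_fin]
  simpa [Nat.factorial] using this

end CfsgLib.Chev.Ortho
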