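/-
`D₄(F) ≅ PΩ₈⁺(F)`.
-/
import Mathlib
import Cfsg.Agent.Lib.Chev.Ortho.Tables
import Cfsg.Agent.Lib.Chev.Ortho.Main

set_option autoImplicit false

namespace CfsgLib.Chev.Ortho

open Matrix Cfsg Cfsg.Lie CfsgLib.Classical

open scoped commutatorElement

universe v

variable {F : Type v} [Field F]

local notation "ιD" => Fin 4 ⊕ Fin 4

theorem real_D : Real fdD (qPlus 4 F) := by
  refine ⟨by decide, fun i => by rcases i with i | i <;> fin_cases i <;> simp [fdD],
    fun i j => ?_, fun i => ?_⟩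
  · rw [QuadraticMap.polar, coe_qPlus]
    rcases i with i | i <;> rcases j with j | j <;> fin_cases i <;> fin_cases j <;>
      simp [Cfsg.quadFormPlus, bv, Fin.sum_univ_four, fdD, Pi.single_apply]
  · rw [coe_qPlus]
    rcases i with i | i <;> fin_cases i <;>
      simp [Cfsg.quadFormPlus, bv, Fin.sum_univ_four, fdD, Pi.single_apply]

theorem split_D : Split fdD Sum.swap := by decide +kernel

/-- The six fixed coordinates. -/
def fixD : Finset ιD := {.inl 0, .inr 0, .inl 1, .inr 1, .inl 2, .inr 2}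

/-- An isometry fixing three pairs of coordinates, diagonal or anti-diagonal on the last one. -/
def PD (g : isometryGroup F ⇑(qPlus 4 F)) : Prop :=
  (∀ i ∈ fixD, isoApply g (bv F i) = bv F i) ∧ ∃ c : F, c ≠ 0 ∧
    ((isoApply g (bv F (.inl 3)) = c • bv F (.inl 3) ∧ isoApply g (bv F (.inr 3)) = c⁻¹ • bv F (.inr 3)) ∨
     (isoApply g (bv F (.inl 3)) = c • bv F (.inr 3) ∧ isoApply g (bv F (.inr 3)) = c⁻¹ • bv F (.inl 3)))

theorem mem_fixD : ∀ i : ιD, i ∈ fixD ∨ i = .inl 3 ∨ i = .inr 3 := by decide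

theorem hom_ext_bv {ι : Type} [Fintype ι] [DecidableEq ι] {Q : (ι → F) → F} {g h : isometryGroup F Q}
    (H : ∀ i, isoApply g (bv F i) = isoApply h (bv F i)) : g = h :=
  Subtype.ext (Units.ext (Matrix.ext_of_mulVec_single fun i => H i))

theorem pD_mono (g : isometryGroup F ⇑(qPlus 4 F)) (h : PD g) : Mono (qPlus 4 F) g := by
  obtain ⟨h6, c, -, hc⟩ := h
  intro i
  rcases mem_fixD i with h | rfl | rfl
  · exact ⟨i, 1, by rw [h6 i h, one_smul]⟩
  · rcases hc with ⟨h, -⟩ | ⟨h, -⟩ <;> exact ⟨_, _, h⟩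
  · rcases hc with ⟨-, h⟩ | ⟨-, h⟩ <;> exact ⟨_, _, h⟩

theorem gen_D (g : isometryGroup F ⇑(qPlus 4 F)) : ∃ e ∈ eGen fdD (qPlus 4 F), PD (e * g) := by
  have hR := real_D (F := F)
  obtain ⟨e₁, he₁, h₁⟩ := step_pair hR split_D (g := g) ∅ (by simp) (by simp)
    (a := .inl 0) (c := .inl 1) (by decide) (by simp) (by decide) (by simp) (by decide) (by decide)
  obtain ⟨e₂, he₂, h₂⟩ := step_pair hR split_D (g := e₁ * g) _ (by decide) h₁
    (a := .inl 1) (c := .inl 2) (by decide) (by decide) (by decide) (by decide) (by decide) (by decide)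
  obtain ⟨e₃, he₃, h₃⟩ := step_pair hR split_D (g := e₂ * (e₁ * g)) _ (by decide) h₂
    (a := .inl 2) (c := .inl 3) (by decide) (by decide) (by decide) (by decide) (by decide) (by decide)
  refine ⟨e₃ * (e₂ * e₁), mul_mem he₃ (mul_mem he₂ he₁), ?_⟩
  rw [show e₃ * (e₂ * e₁) * g = e₃ * (e₂ * (e₁ * g)) by group]
  generalize e₃ * (e₂ * (e₁ * g)) = k at h₃ ⊢
  have h6 : ∀ i ∈ fixD, isoApply k (bv F i) = bv F i := fun i hi => h₃ i (by revert hi; revert i; decide)
  refine ⟨h6, ?_⟩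
  -- the image of a vector of the last pair
  have hsupp : ∀ v : ιD → F, (∀ i ∈ fixD, QuadraticMap.polar (qPlus 4 F) v (bv F i) = 0) →
      v = v (.inl 3) • bv F (.inl 3) + v (.inr 3) • bv F (.inr 3) := by
    intro v hv
    ext i
    rcases mem_fixD i with h | rfl | rfl
    · have h1 := hv (Sum.swap i) (by revert h; revert i; decide)
      rw [polar_coord' hR split_D _ rfl, Sum.swap_swap] at h1
      have : i ≠ .inl 3 ∧ i ≠ .inr 3 :=
        (by decide : ∀ k ∈ fixD, k ≠ Sum.inl 3 ∧ k ≠ Sum.inr 3) i h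
      simp [bv, h1, this.1, this.2]
    · simp [bv]
    · simp [bv]
  have hperp : ∀ j : ιD, j ∉ fixD → ∀ i ∈ fixD,
      QuadraticMap.polar (qPlus 4 F) (isoApply k (bv F j)) (bv F i) = 0 := by
    intro j hj i hi
    rw [← h6 i hi, iso_polar, hR.polar]
    have : fdD.G j i = 0 := by revert hj hi; revert i j; decide
    rw [this, Int.cast_zero]
  set u := isoApply k (bv F (.inl 3)) with hu
  set w := isoApply k (bv F (.inr 3)) with hw
  have eu := hsupp u (hperp _ (by decide))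
  have ew := hsupp w (hperp _ (by decide))
  have q3 : ∀ v : ιD → F, v = v (.inl 3) • bv F (.inl 3) + v (.inr 3) • bv F (.inr 3) →
      qPlus 4 F v = 0 → v (.inl 3) = 0 ∨ v (.inr 3) = 0 := by
    intro v ev hv
    rw [ev, quad_add, quad_smul, quad_smul, hR.quad, hR.quad, QuadraticMap.polar_smul_left,
      QuadraticMap.polar_smul_right, hR.polar] at hv
    simpa [fdD] using hv
  have huw : QuadraticMap.polar (qPlus 4 F) u w = 1 := by
    rw [hu, hw, iso_polar, hR.polar]; simp [fdD]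
  rw [eu, ew] at huw
  simp only [QuadraticMap.polar_add_left, QuadraticMap.polar_add_right, QuadraticMap.polar_smul_left,
    QuadraticMap.polar_smul_right, hR.polar] at huw
  simp [fdD] at huw
  rcases q3 u eu (by rw [hu, isoApply_Q (Q := ⇑(qPlus 4 F)), hR.quad]; simp [fdD]) with hu0 | hu0
  · have h1 : u (.inr 3) * w (.inl 3) = 1 := by rw [hu0] at huw; linear_combination huw
    have hw0 : w (.inr 3) = 0 := (q3 w ew (by rw [hw, isoApply_Q (Q := ⇑(qPlus 4 F)), hR.quad]; simp [fdD])).resolve_left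
      (right_ne_zero_of_mul_eq_one h1)
    refine ⟨u (.inr 3), left_ne_zero_of_mul_eq_one h1, Or.inr ⟨?_, ?_⟩⟩
    · rw [eu, hu0, zero_smul, zero_add]; simp [bv]
    · rw [ew, hw0, zero_smul, add_zero, eq_inv_of_mul_eq_one_right h1]
  · have h1 : u (.inl 3) * w (.inr 3) = 1 := by rw [hu0] at huw; linear_combination huw
    have hw0 : w (.inl 3) = 0 := (q3 w ew (by rw [hw, isoApply_Q (Q := ⇑(qPlus 4 F)), hR.quad]; simp [fdD])).resolve_right
      (right_ne_zero_of_mul_eq_one h1)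
    refine ⟨u (.inl 3), left_ne_zero_of_mul_eq_one h1, Or.inl ⟨?_, ?_⟩⟩
    · rw [eu, hu0, zero_smul, add_zero]; simp [bv]
    · rw [ew, hw0, zero_smul, zero_add, eq_inv_of_mul_eq_one_right h1]

theorem diag_mem (s : F) (hs : s ≠ 0) : ∃ D ∈ eGen fdD (qPlus 4 F),
    (∀ i ∈ fixD, isoApply D (bv F i) = bv F i) ∧
    isoApply D (bv F (.inl 3)) = (s * s) • bv F (.inl 3) ∧
    isoApply D (bv F (.inr 3)) = (s * s)⁻¹ • bv F (.inr 3) := by
  obtain ⟨⟨co, hF⟩, hC⟩ := good_D4.{v}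
  obtain ⟨φ, hφ⟩ := exists_phi (F := F) (real_D (F := F)) rootB_D hF commAllB_D torusAllB_D
  have hmem : ∀ r < chevD4.nroots, ∀ t : F, rho rtD (qPlus 4 F) r t ∈ eGen fdD (qPlus 4 F) := fun r hr t => by
    rw [← hφ r t hr, ← range_eq_eGen (real_D (F := F)) rootB_D (by decide +kernel) hφ]
    exact ⟨_, rfl⟩
  have hH : ∀ r < chevD4.nroots, ∀ t : F, rhoH rtD chevD4 (qPlus 4 F) r t ∈ eGen fdD (qPlus 4 F) :=
    fun r hr t => mul_mem (mul_mem (mul_mem (hmem r hr _) (hmem _ (hF.neg_lt hr) _)) (hmem r hr _))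
      (mul_mem (mul_mem (hmem r hr _) (hmem _ (hF.neg_lt hr) _)) (hmem r hr _))
  refine ⟨_, mul_mem (hH 12 (by decide) s) (hH 13 (by decide) s⁻¹), ?_⟩
  have hact : ∀ i : ιD, isoApply (rhoH rtD chevD4 (qPlus 4 F) 12 s * rhoH rtD chevD4 (qPlus 4 F) 13 s⁻¹)
      (bv F i) = (s ^ exD 12 i * (s⁻¹) ^ exD 13 i) • bv F i := by
    intro i
    rw [isoApply, Subgroup.coe_mul, Units.val_mul,
      rhoH_matrix (real_D (F := F)) rootB_D hF torusAllB_D (by decide) hs,
      rhoH_matrix (real_D (F := F)) rootB_D hF torusAllB_D (by decide) (inv_ne_zero hs),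
      Matrix.diagonal_mul_diagonal]
    ext j
    by_cases h : j = i <;> simp [bv, Matrix.mulVec_diagonal, h]
  refine ⟨fun i hi => ?_, ?_, ?_⟩
  · rw [hact]
    have hi' : i = .inl 0 ∨ i = .inr 0 ∨ i = .inl 1 ∨ i = .inr 1 ∨ i = .inl 2 ∨ i = .inr 2 := by
      revert hi; revert i; decide
    rcases hi' with rfl | rfl | rfl | rfl | rfl | rfl <;> simp [exD, hs]
  · rw [hact]; simp [exD]
  · rw [hact]; simp [exD, mul_inv]

theorem comm_D (g g' : isometryGroup F ⇑(qPlus 4 F)) (hg : PD g) (hg' : PD g') :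
    ⁅g, g'⁆ ∈ eGen fdD (qPlus 4 F) := by
  obtain ⟨g6, a, ha, hga⟩ := hg
  obtain ⟨g6', b, hb, hgb⟩ := hg'
  have hm : ∀ (k : isometryGroup F ⇑(qPlus 4 F)) (c : F) (x : ιD → F),
      isoApply k (c • x) = c • isoApply k x := fun k c x => Matrix.mulVec_smul _ _ _
  have key : ∀ s : F, s ≠ 0 →
      (isoApply (g * g') (bv F (.inl 3)) = (s * s) • isoApply (g' * g) (bv F (.inl 3)) ∧
          (∃ c : F, isoApply (g' * g) (bv F (.inl 3)) = c • bv F (.inl 3)) ∨
        isoApply (g * g') (bv F (.inl 3)) = (s * s)⁻¹ • isoApply (g' * g) (bv F (.inl 3)) ∧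
          (∃ c : F, isoApply (g' * g) (bv F (.inl 3)) = c • bv F (.inr 3))) →
      (isoApply (g * g') (bv F (.inr 3)) = (s * s)⁻¹ • isoApply (g' * g) (bv F (.inr 3)) ∧
          (∃ c : F, isoApply (g' * g) (bv F (.inr 3)) = c • bv F (.inr 3)) ∨
        isoApply (g * g') (bv F (.inr 3)) = (s * s) • isoApply (g' * g) (bv F (.inr 3)) ∧
          (∃ c : F, isoApply (g' * g) (bv F (.inr 3)) = c • bv F (.inl 3))) →
      ⁅g, g'⁆ ∈ eGen fdD (qPlus 4 F) := by
    intro s hs hl hr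
    obtain ⟨D, hD, h6, hx, hy⟩ := diag_mem s hs
    suffices e : g * g' = D * (g' * g) by
      rw [commutatorElement_def, e]
      simpa [mul_assoc] using hD
    refine hom_ext_bv fun i => ?_
    rw [isoApply_mul D]
    rcases mem_fixD i with h | rfl | rfl
    · simp only [isoApply_mul, g6 i h, g6' i h, h6 i h]
    · rcases hl with ⟨e, c, hc⟩ | ⟨e, c, hc⟩
      · rw [e, hc, hm, hx]; module
      · rw [e, hc, hm, hy]; module
    · rcases hr with ⟨e, c, hc⟩ | ⟨e, c, hc⟩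
      · rw [e, hc, hm, hy]; module
      · rw [e, hc, hm, hx]; module
  rcases hga with ⟨g1, g2⟩ | ⟨g1, g2⟩ <;> rcases hgb with ⟨k1, k2⟩ | ⟨k1, k2⟩
  · refine key 1 one_ne_zero (Or.inl ⟨?_, ?_⟩) (Or.inl ⟨?_, ?_⟩) <;>
      simp only [isoApply_mul, g1, g2, k1, k2, hm, smul_smul] <;>
      first | exact ⟨_, rfl⟩ | (match_scalars; field_simp)
  · refine key a ha (Or.inr ⟨?_, ?_⟩) (Or.inr ⟨?_, ?_⟩) <;>
      simp only [isoApply_mul, g1, g2, k1, k2, hm, smul_smul] <;>
      first | exact ⟨_, rfl⟩ | (match_scalars; field_simp)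
  · refine key b⁻¹ (inv_ne_zero hb) (Or.inr ⟨?_, ?_⟩) (Or.inr ⟨?_, ?_⟩) <;>
      simp only [isoApply_mul, g1, g2, k1, k2, hm, smul_smul] <;>
      first | exact ⟨_, rfl⟩ | (match_scalars; field_simp)
  · refine key (b / a) (div_ne_zero hb ha) (Or.inl ⟨?_, ?_⟩) (Or.inl ⟨?_, ?_⟩) <;>
      simp only [isoApply_mul, g1, g2, k1, k2, hm, smul_smul] <;>
      first | exact ⟨_, rfl⟩ | (match_scalars; field_simp)

theorem nonempty_equiv_D : Nonempty (↥(chevD4.group F) ≃* POmega F (quadFormPlus 4 F)) := by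
  rw [← coe_qPlus]
  obtain ⟨⟨co, hF⟩, hC⟩ := good_D4.{v}
  have hR := real_D (F := F)
  obtain ⟨φ, hφ⟩ := exists_phi (F := F) hR rootB_D hF commAllB_D torusAllB_D
  have hS : spanB fdD rtD chevD4 = true := by decide +kernel
  have hO : oneB chevD4 = true := by decide +kernel
  have hrange : φ.range = Omega F ⇑(qPlus 4 F) := by
    rw [range_eq_eGen hR rootB_D hS hφ]
    exact le_antisymm (eGen_le_commutator_of_one hR rootB_D commAllB_D hO hS hφ)
      (commutator_le_eGen hR split_D PD pD_mono gen_D comm_D)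
  refine nonempty_equiv_of_phi hF hC (hasNbr_of_mem (by simp))
    (simple_of_perfect good_D4 linked_D4 (perfect_of_singleStep good_D4 singleStep_D4)).1 hrange ?_
  obtain ⟨r, s, hr, hs, t, u, e⟩ := rho_commutator hR rootB_D commAllB_D hO (show 12 < chevD4.nroots by decide) (1 : F)
  refine ⟨chevD4.stGen F r t, chevD4.stGen F s u, fun h => ?_⟩
  rw [hφ r t hr, hφ s u hs] at h
  rw [h, inv_mul_cancel] at e
  exact rho_ne_one hR rootB_D (show 12 < chevD4.nroots by decide) one_ne_zero (j := .inr 2)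
    (by simp [rtD]) (by simp [rtD, fdD]) (by decide) (by decide) e

end CfsgLib.Chev.Ortho
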